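import Groth.Agent.FormalAlgzAmpleLib.Compare
import Groth.Agent.ProjLefLib.ComplIso
import Groth.Agent.ProjLefLib.Bundle

/-!
# Algebraization of formal bundles along the zero scheme of a section of an ample module
-/

set_option autoImplicit false
set_option linter.unusedSectionVars false
set_option linter.style.haveILetI false
set_option backward.isDefEq.respectTransparency false
set_option backward.isDefEq.respectTransparency.types false
set_option maxHeartbeats 1600000
universe u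

open CategoryTheory CategoryTheory.Limits AlgebraicGeometry TopologicalSpace Opposite FSch
open ProjLefLib (cπ cπ_gTr lev)
open CohCmpLib (stk)

noncomputable section

namespace FormalAlgzAmpleLib

theorem isFinLocFree_sigma {X : Scheme.{u}} {C A : X.Modules} (hC : PicF.IsInvertible C)
    (vC : CohB1.tensorMod C A ≅ Coh.structureModule X) (m : ℕ) [IsLocallyNoetherian X] :
    FlatMod.IsFinLocFree (∐ fun _ : Fin m => A) := by
  haveI : (CurvLib.tensorLeft' A).IsEquivalence :=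
    VBP1Lib.isEquivalence_tensor (HilbPolyLib.swapIso A C ≪≫ vC)
  let e : (CurvLib.tensorLeft' A).obj (FlatMod.freeMod X m) ≅ ∐ fun _ : Fin m => A :=
    PreservesCoproduct.iso (CurvLib.tensorLeft' A) _ ≪≫ Sigma.mapIso fun _ => PicPnLib.unitRight A
  exact Groth.Agent.PerfLib.isFinLocFree_of_iso e
    (ProjLefLib.isFinLocFree_untwist (CohCmpLib.isInvertible_of_inverse' hC vC) m)

/-- Formal maps out of a sum, componentwise. -/
theorem exists_of_components {X : Scheme.{u}} {P A : X.Modules} {Q : ℕ → X.Modules} (q : ∀ n, P ⟶ Q n)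
    (t : ∀ n, Q (n + 1) ⟶ Q n)
    (hf : ∀ y : ∀ n, A ⟶ Q n, (∀ n, y (n + 1) ≫ t n = y n) → ∃ φ : A ⟶ P, ∀ n, φ ≫ q n = y n) {p : ℕ}
    (y : ∀ n, (∐ fun _ : Fin p => A) ⟶ Q n) (hy : ∀ n, y (n + 1) ≫ t n = y n) :
    ∃ φ : (∐ fun _ : Fin p => A) ⟶ P, ∀ n, φ ≫ q n = y n := by
  choose φl hφl using fun l : Fin p => hf (fun n => Sigma.ι (fun _ : Fin p => A) l ≫ y n)
    fun n => by rw [Category.assoc, hy]
  exact ⟨Sigma.desc φl, fun n => Sigma.hom_ext _ _ fun l => by rw [Sigma.ι_desc_assoc, hφl]⟩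

variable {X : Scheme.{u}} (I : X.IdealSheafData)

/-- Stalk of a composite. -/
theorem sMap_eq {A B C : X.Modules} {f : A ⟶ B} {g : B ⟶ C} {h : A ⟶ C} (e : f ≫ g = h) (z : X) (v : stk A z) :
    FLI.sMap g z (FLI.sMap f z v) = FLI.sMap h z v := by
  rw [← e]
  exact (LinearMap.congr_fun (congrArg ModuleCat.Hom.hom ((DerSch.stalkFunctor X z).map_comp f g)) v).symm

theorem kernel_stalk {A B : X.Modules} (f : A ⟶ B) (z : X) :
    Function.Injective (FLI.sMap (kernel.ι f) z) ∧ ∀ x, FLI.sMap f z x = 0 ↔ ∃ w, FLI.sMap (kernel.ι f) z w = x := by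
  refine ⟨(ModuleCat.mono_iff_injective ((DerSch.stalkFunctor X z).map (kernel.ι f))).1 inferInstance,
    fun x => ⟨fun hx => ?_, ?_⟩⟩
  · exact (ShortComplex.moduleCat_exact_iff _).1 ((ShortComplex.exact_of_f_is_kernel (ShortComplex.mk _ _ (kernel.condition f))
      (kernelIsKernel f)).map (DerSch.stalkFunctor X z)) x hx
  · rintro ⟨w, rfl⟩
    refine (sMap_eq (kernel.condition f) z w).trans ?_
    show ((DerSch.stalkFunctor X z).map (0 : kernel f ⟶ B)).hom w = 0
    rw [Functor.map_zero]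
    rfl

theorem subsingleton_of_isUnit {R : Type u} [CommRing R] {t : R} (ht : IsUnit t) {n : ℕ} {M : Type u} [AddCommGroup M]
    [Module R M] (h : LevelFree t n M) : Subsingleton M :=
  subsingleton_of_forall_eq 0 fun x => (ht.pow (n + 1)).smul_left_cancel.1 ((h.smul_eq_zero x).trans (smul_zero _).symm)

/-- The kernel of a map of systems. -/
def kerSys (G G' : Sys X) (a : ∀ n, G.F n ⟶ G'.F n) (ha : ∀ n, a (n + 1) ≫ G'.tr n = G.tr n ≫ a n) : Sys X where
  F n := kernel (a n)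
  tr n := kernel.lift _ (kernel.ι (a (n + 1)) ≫ G.tr n) (by rw [Category.assoc, ← ha, kernel.condition_assoc, zero_comp])

theorem loc_kerSys {G G' : Sys X} (hG : Loc I G) (hG' : Loc I G') (a : ∀ n, G.F n ⟶ G'.F n)
    (ha : ∀ n, a (n + 1) ≫ G'.tr n = G.tr n ≫ a n) (hs : ∀ n z, Function.Surjective (FLI.sMap (a n) z)) :
    Loc I (kerSys G G' a ha) := by
  intro z V t hz hV
  let ι : ∀ n, (DerSch.stalkFunctor X z).obj ((kerSys G G' a ha).F n) →ₗ[X.presheaf.stalk z]
      (DerSch.stalkFunctor X z).obj (G.F n) := fun n => ((DerSch.stalkFunctor X z).map (kernel.ι (a n))).hom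
  by_cases hu : IsUnit (X.presheaf.germ V.1 z hz t)
  · haveI : ∀ n, Subsingleton ((DerSch.stalkFunctor X z).obj ((kerSys G G' a ha).F n)) := fun n =>
      haveI := subsingleton_of_isUnit hu ((hG z V t hz hV).free n)
      (kernel_stalk (a n) z).1.subsingleton
    exact ⟨fun n => ⟨0, 0, fun x => ⟨0, Subsingleton.elim _ _⟩,
      fun c => ⟨fun _ => ⟨0, funext fun j => j.elim0⟩, fun _ => rfl⟩⟩,
      fun n x => ⟨0, Subsingleton.elim _ _⟩, fun n x _ => ⟨0, Subsingleton.elim _ _⟩⟩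
  refine freeSys_kernel ((IsLocalRing.mem_maximalIdeal _).2 hu) (hG z V t hz hV) (hG' z V t hz hV)
    (fun n => ((DerSch.stalkFunctor X z).map (a n)).hom) (fun n x => ?_) (fun n => hs n z)
    (trS (kerSys G G' a ha) z) ι (fun n => (kernel_stalk (a n) z).1) (fun n x => (kernel_stalk (a n) z).2 x)
    fun n x => ?_
  · exact (sMap_eq (ha n) z x).trans (sMap_eq rfl z x).symm
  · exact (sMap_eq (show kernel.ι (a (n + 1)) ≫ G.tr n = _ from (kernel.lift_ι _ _ _).symm) z x).trans
      (sMap_eq rfl z x).symm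

variable [IsLocallyNoetherian X]

theorem loc_compl {M : X.Modules} (hM : FlatMod.IsFinLocFree M) : Loc I (levS I (complMod I M)) :=
  loc_levS I fun n => CohCmpLib.isFinLocFree_pb (g := completionToX X I n) hM

variable {I} in
/-- **A module presenting a system completes to it.** -/
theorem nonempty_complMod_iso_of_stalks
    (hch : ∀ z : X, ∃ (V : X.affineOpens) (t : Γ(X, V.1)), z ∈ V.1 ∧ I.ideal V = Ideal.span {t})
    (𝔐 : ModSys (completionAlong X I)) (h𝔐 : LefX.LevelwiseFinLocFree 𝔐) {M : X.Modules}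
    (g : ∀ n, M ⟶ lev I 𝔐 n) (hg : ∀ n, g (n + 1) ≫ FCohLib.gTr I 𝔐 n = g n)
    (hc : ∀ z : X, ∀ (V : X.affineOpens) (t : Γ(X, V.1)) (hz : z ∈ V.1), I.ideal V = Ideal.span {t} → ∀ n,
      Function.Surjective (FLI.sMap (g n) z) ∧ ∀ v, FLI.sMap (g n) z v = 0 →
        ∃ v', v = X.presheaf.germ V.1 z hz t ^ (n + 1) • v') :
    Nonempty (complMod I M ≅ 𝔐) := by
  haveI : ∀ n, IsClosedImmersion (completionToX X I n) := fun n => FComplLib.isClosedImmersion_completionToX X I n
  let θ := fun n => ProjLefLib.adjLev I n (g n)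
  have hθ : ∀ n, IsIso (θ n) := fun n => ProjLefLib.isIso_of_isIso_push (completionToX X I n) _ (by
    let f : lev I (complMod I M) n ⟶ lev I 𝔐 n := (Scheme.Modules.pushforward (completionToX X I n)).map (θ n)
    have hf : cπ I M n ≫ f = g n := ProjLefLib.cπ_adjLev I n (g n)
    haveI : Mono f := PerfCompLib.mono_of_stalks f fun z => (ModuleCat.mono_iff_injective _).2
      ((injective_iff_map_eq_zero _).2 fun w hw => by
        obtain ⟨V, t, hz, hV⟩ := hch z
        obtain ⟨v, rfl⟩ := cπ_stalk_surjective I M n z w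
        exact (cπ_stalk_eq_zero_iff M hV n hz v).2 ((hc z V t hz hV n).2 v ((sMap_eq hf z v).symm.trans hw)))
    haveI : Epi f := PerfCompLib.epi_of_stalks f fun z => (ModuleCat.epi_iff_surjective _).2 fun w => by
      obtain ⟨V, t, hz, hV⟩ := hch z
      obtain ⟨v, rfl⟩ := (hc z V t hz hV n).1 w
      exact ⟨FLI.sMap (cπ I M n) z v, sMap_eq hf z v⟩
    exact isIso_of_mono_of_epi f)
  refine ⟨FCohLib.modSysIso (𝔐 := complMod I M) (fun n => @asIso _ _ _ _ (θ n) (hθ n)) fun k => ?_⟩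
  rw [FCohLib.complMod_e_hom]
  exact FCohLib.compat_adjuncts (N := 𝔐.F (k + 1)) (N₀ := 𝔐.F k) (e := (𝔐.e k).hom) (Q₁ := lev I 𝔐 (k + 1))
    (Q₀ := lev I 𝔐 k) (π₁ := g (k + 1)) (π₀ := g k) (T := FCohLib.gTr I 𝔐 k)
    ((completionAlong X I).ι k) (completionToX X I (k + 1)) (completionToX_comm X I k) (hg k)
    (γ₁ := 𝟙 _) (γ₀ := 𝟙 _) ((Category.comp_id _).trans (Category.id_comp _).symm)
    ((ProjLefLib.cπ_adjLev I (k + 1) (g (k + 1))).trans (Category.comp_id _).symm)
    ((ProjLefLib.cπ_adjLev I k (g k)).trans (Category.comp_id _).symm)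

variable {I} in
theorem free_stalk_of_levels
    (hch : ∀ z : X, ∃ (V : X.affineOpens) (t : Γ(X, V.1)), z ∈ V.1 ∧ I.ideal V = Ideal.span {t}) {F : X.Modules}
    (hF : Coh.IsCoh F) (hfree : ∀ n, FlatMod.IsFinLocFree ((Scheme.Modules.pullback (completionToX X I n)).obj F))
    {y : X} (hy : y ∈ (I.support : Set X)) : Module.Free (X.presheaf.stalk y) (F.presheaf.stalk y) := by
  haveI := hF.1
  let R := X.presheaf.stalk y
  haveI : Module.Finite R (F.presheaf.stalk y) := DepthLib.finite_stalk F hF.2 y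
  haveI := fun n => FComplLib.isClosedImmersion_completionToX X I n
  obtain ⟨V, t, hyV, hV⟩ := hch y
  refine RegAlgzLib.free_of_forall_levels (R := R) (M := F.presheaf.stalk y)
    (Ideal.span {X.presheaf.germ V.1 y hyV t}) ?_ fun n => ?_
  · obtain ⟨z, rfl⟩ := ProjLefLib.exists_level_point hy 0
    rw [← pow_one (X.presheaf.germ V.1 _ hyV t), ← ProjLefLib.ker_level_stalk hV 0 z hyV]
    exact IsLocalRing.le_maximalIdeal (RingHom.ker_ne_top _)
  obtain ⟨z, rfl⟩ := ProjLefLib.exists_level_point hy n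
  let φ := (completionToX X I n).stalkMap z
  letI : Algebra R (((completionAlong X I).X n).presheaf.stalk z) := φ.hom.toAlgebra
  obtain ⟨r, ⟨e⟩⟩ := LocSuppLib.nonempty_stalk_pi (hfree n) z
  refine ⟨((completionAlong X I).X n).presheaf.stalk z, inferInstance, inferInstance,
    (completionToX X I n).stalkMap_surjective z, ?_, r, ⟨?_⟩⟩
  · rw [Ideal.span_singleton_pow]
    exact (ProjLefLib.ker_level_stalk hV n z hyV).le
  · exact ((KFlatLib.stalkPullIso (completionToX X I n) z).app F).toLinearEquiv.symm.trans e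

variable {I} in
/-- **A system with presentations and algebraic formal maps is the completion of a coherent module.** -/
theorem exists_coh_algebraization (hch : ∀ z : X, ∃ (V : X.affineOpens) (t : Γ(X, V.1)), z ∈ V.1 ∧
      I.ideal V = Ideal.span {t})
    (hpres : ∀ G : Sys X, Loc I G → (∀ n, Coh.IsCoh (G.F n)) →
      ∃ (C A : X.Modules) (_ : PicF.IsInvertible C) (_ : CohB1.tensorMod C A ≅ Coh.structureModule X) (m : ℕ)
        (g : ∀ n, (∐ fun _ : Fin m => A) ⟶ G.F n), (∀ n, g (n + 1) ≫ G.tr n = g n) ∧ Epi (g 0))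
    (hform : ∀ {C A : X.Modules}, PicF.IsInvertible C → (CohB1.tensorMod C A ≅ Coh.structureModule X) →
      ∀ {P : X.Modules}, FlatMod.IsFinLocFree P → ∀ y : ∀ n, A ⟶ lev I (complMod I P) n,
        (∀ n, y (n + 1) ≫ FCohLib.gTr I (complMod I P) n = y n) → ∃ φ : A ⟶ P, ∀ n, φ ≫ cπ I P n = y n)
    (𝔐 : ModSys (completionAlong X I)) (h𝔐 : LefX.LevelwiseFinLocFree 𝔐) :
    ∃ M : X.Modules, Coh.IsCoh M ∧ Nonempty (complMod I M ≅ 𝔐) := by
  have hG : Loc I (levS I 𝔐) := loc_levS I h𝔐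
  have hGc : ∀ n, Coh.IsCoh (lev I 𝔐 n) := (ProjLefLib.levSys I 𝔐 h𝔐).coh
  obtain ⟨C, A, hC, vC, m, g, hg, hg0⟩ := hpres _ hG hGc
  haveI := hg0
  let P : X.Modules := ∐ fun _ : Fin m => A
  have hP : FlatMod.IsFinLocFree P := isFinLocFree_sigma hC vC m
  have hPc : Coh.IsCoh P := LocSuppLib.isCoh_of_isFinLocFree hP
  haveI := hPc.1
  -- the presentation, levelwise
  choose a ha using fun n => exists_desc_sys I P hch hG n (g n)
  have hac : ∀ n, a (n + 1) ≫ FCohLib.gTr I 𝔐 n = FCohLib.gTr I (complMod I P) n ≫ a n := fun n => by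
    haveI := cπ_epi I P (n + 1)
    rw [← cancel_epi (cπ I P (n + 1)), ← Category.assoc, ha, ← Category.assoc, cπ_gTr, ha]
    exact hg n
  have hgs : ∀ z n, Function.Surjective (FLI.sMap (g n) z) := fun z => by
    obtain ⟨V, t, hz, hV⟩ := hch z
    exact surjective_of_bottom (hG z V t hz hV) (fun n => ((DerSch.stalkFunctor X z).map (g n)).hom)
      (fun n v => sMap_eq (hg n) z v) ((ModuleCat.epi_iff_surjective ((DerSch.stalkFunctor X z).map (g 0))).1 inferInstance)
  have has : ∀ n z, Function.Surjective (FLI.sMap (a n) z) := fun n z w => by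
    obtain ⟨v, rfl⟩ := hgs z n w
    exact ⟨_, sMap_eq (ha n) z v⟩
  let K := kerSys (levS I (complMod I P)) (levS I 𝔐) a hac
  have hPl : ∀ n, Coh.IsCoh (lev I (complMod I P) n) := (ProjLefLib.complSys I hP).coh
  have hKc : ∀ n, Coh.IsCoh (K.F n) := fun n => QCohLib.isCoh_kernel _ (hPl n) (hGc n).1
  obtain ⟨C', A', hC', vC', p, h, hh, hh0⟩ :=
    hpres K (loc_kerSys I (loc_compl I hP) hG a hac has) hKc
  haveI := hh0
  have hK := loc_kerSys I (loc_compl I hP) hG a hac has
  have hhs : ∀ z n, Function.Surjective (FLI.sMap (h n) z) := fun z => by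
    obtain ⟨V, t, hz, hV⟩ := hch z
    exact surjective_of_bottom (hK z V t hz hV) (fun n => ((DerSch.stalkFunctor X z).map (h n)).hom)
      (fun n v => sMap_eq (hh n) z v) ((ModuleCat.epi_iff_surjective ((DerSch.stalkFunctor X z).map (h 0))).1 inferInstance)
  -- the relations are algebraic
  have hrel : ∀ n, (h (n + 1) ≫ kernel.ι (a (n + 1))) ≫ FCohLib.gTr I (complMod I P) n = h n ≫ kernel.ι (a n) :=
    fun n => by
      rw [← hh n, Category.assoc, Category.assoc]
      exact congrArg (h (n + 1) ≫ ·) (kernel.lift_ι _ _ _).symm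
  obtain ⟨φ, hφ⟩ := exists_of_components (A := A') (P := P) (Q := lev I (complMod I P)) (cπ I P)
    (FCohLib.gTr I (complMod I P)) (hform hC' vC' hP)
    (fun n => h n ≫ kernel.ι (a n)) hrel
  let γ : ∀ n, cokernel φ ⟶ lev I 𝔐 n := fun n => cokernel.desc φ (g n) (by
    rw [← ha n, ← Category.assoc, hφ n, Category.assoc, kernel.condition, comp_zero])
  have hγ : ∀ n, γ (n + 1) ≫ FCohLib.gTr I 𝔐 n = γ n := fun n => coequalizer.hom_ext (by
    show cokernel.π φ ≫ γ (n + 1) ≫ _ = cokernel.π φ ≫ γ n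
    rw [cokernel.π_desc_assoc, cokernel.π_desc]
    exact hg n)
  have hW : Coh.IsCoh (∐ fun _ : Fin p => A') := LocSuppLib.isCoh_of_isFinLocFree (isFinLocFree_sigma hC' vC' p)
  haveI := hW.1
  refine ⟨cokernel φ, QCohLib.isCoh_cokernel φ hW.1 hPc,
    nonempty_complMod_iso_of_stalks hch 𝔐 h𝔐 γ hγ fun z V t hz hV n => ?_⟩
  have hπ : ∀ b, FLI.sMap (γ n) z (FLI.sMap (cokernel.π φ) z b) = FLI.sMap (g n) z b :=
    sMap_eq (cokernel.π_desc φ (g n) _) z
  refine ⟨fun w => ?_, fun v hv => ?_⟩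
  · obtain ⟨b, rfl⟩ := hgs z n w
    exact ⟨_, hπ b⟩
  · obtain ⟨b, rfl⟩ := (ModuleCat.epi_iff_surjective ((DerSch.stalkFunctor X z).map (cokernel.π φ))).1 inferInstance v
    have h0 : FLI.sMap (a n) z (FLI.sMap (cπ I P n) z b) = 0 :=
      (sMap_eq (ha n) z b).trans ((hπ b).symm.trans hv)
    obtain ⟨w, hw⟩ := ((kernel_stalk (a n) z).2 _).1 h0
    obtain ⟨c, rfl⟩ := hhs z n w
    have h1 : FLI.sMap (cπ I P n) z (FLI.sMap φ z c) = FLI.sMap (cπ I P n) z b :=
      (sMap_eq (hφ n) z c).trans ((sMap_eq rfl z c).symm.trans hw)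
    obtain ⟨b', hb'⟩ := (cπ_stalk_eq_zero_iff P hV n hz (b - FLI.sMap φ z c)).1 (by rw [map_sub, h1, sub_self])
    refine ⟨FLI.sMap (cokernel.π φ) z b', ?_⟩
    rw [← map_smul, ← hb', map_sub]
    refine (sub_eq_self.2 ((sMap_eq (cokernel.condition φ) z c).trans ?_)).symm
    show ((DerSch.stalkFunctor X z).map (0 : _ ⟶ cokernel φ)).hom c = 0
    rw [Functor.map_zero]
    rfl

end FormalAlgzAmpleLib
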