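import Groth.Agent.FormalAlgzAmpleLib.Present
import Groth.Agent.ProVanLib.Lef
import Groth.Agent.ProjLefLib.Compl
import Groth.Agent.DefClassLib.Basic

/-!
# Completions of modules against formal systems
-/

set_option autoImplicit false
set_option linter.unusedSectionVars false
set_option linter.style.haveILetI false
set_option backward.isDefEq.respectTransparency false
set_option backward.isDefEq.respectTransparency.types false
set_option maxHeartbeats 1600000
universe u

open CategoryTheory CategoryTheory.Limits AlgebraicGeometry TopologicalSpace Opposite FSch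
open ProjLefLib (cπ cπ_gTr lev)
open CohCmpLib (stk)
open PnDualLib (ins bijective_ins)

noncomputable section

namespace FormalAlgzAmpleLib

variable {X : Scheme.{u}} [IsLocallyNoetherian X] (I : X.IdealSheafData) (M : X.Modules)

theorem cπ_epi (n : ℕ) : Epi (cπ I M n) := by
  haveI := FComplLib.isClosedImmersion_completionToX X I n
  exact DefClassLib.epi_unit (completionToX X I n) M

theorem cπ_stalk_surjective (n : ℕ) (z : X) : Function.Surjective (FLI.sMap (cπ I M n) z) := by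
  haveI := cπ_epi I M n
  exact (ModuleCat.epi_iff_surjective ((DerSch.stalkFunctor X z).map (cπ I M n))).1 inferInstance

variable {I}

theorem cπ_stalk_eq_zero_iff {V : X.affineOpens} {t : Γ(X, V.1)} (hV : I.ideal V = Ideal.span {t}) (n : ℕ) {z : X}
    (hz : z ∈ V.1) (v : stk M z) :
    FLI.sMap (cπ I M n) z v = 0 ↔ ∃ v', v = X.presheaf.germ V.1 z hz t ^ (n + 1) • v' := by
  haveI := FComplLib.isClosedImmersion_completionToX X I n
  refine (ProVanLib.mem_ker_unit_iff (completionToX X I n) M z v).trans ?_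
  rw [show (completionToX X I n).ker = I ^ (n + 1) from Scheme.IdealSheafData.ker_subschemeι _,
    SDivLib.stalkIdeal_eq _ V hz, Scheme.IdealSheafData.ideal_pow, Pi.pow_apply, hV, Ideal.span_singleton_pow,
    Ideal.map_span, Set.image_singleton, map_pow, Submodule.ideal_span_singleton_smul,
    Submodule.mem_smul_pointwise_iff_exists]
  exact ⟨fun ⟨b, _, hb⟩ => ⟨b, hb.symm⟩, fun ⟨b, hb⟩ => ⟨b, trivial, hb.symm⟩⟩

variable (I)

/-- A map into a level of a system descends to the completion. -/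
theorem exists_desc_sys (hch : ∀ z : X, ∃ (V : X.affineOpens) (t : Γ(X, V.1)), z ∈ V.1 ∧ I.ideal V = Ideal.span {t})
    {G : Sys X} (hG : Loc I G) (n : ℕ) (g : M ⟶ G.F n) :
    ∃ a : lev I (complMod I M) n ⟶ G.F n, cπ I M n ≫ a = g := by
  haveI := cπ_epi I M n
  refine ⟨Abelian.epiDesc (cπ I M n) g (FComplLib.eq_zero_of_stalks _ fun z => ModuleCat.hom_ext
    (LinearMap.ext fun w => ?_)), Abelian.comp_epiDesc _ _ _⟩
  obtain ⟨V, t, hz, hV⟩ := hch z
  rw [Functor.map_comp, ModuleCat.hom_comp, LinearMap.comp_apply]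
  obtain ⟨v, hv⟩ := (cπ_stalk_eq_zero_iff M hV n hz (((DerSch.stalkFunctor X z).map (kernel.ι (cπ I M n))).hom w)).1 (by
    show ((DerSch.stalkFunctor X z).map (cπ I M n)).hom _ = 0
    rw [← LinearMap.comp_apply, ← ModuleCat.hom_comp, ← Functor.map_comp, kernel.condition, Functor.map_zero]
    rfl)
  rw [hv]
  refine (map_smul _ _ _).trans ?_
  exact ((hG z V t hz hV).free n).smul_eq_zero _

theorem map_compat {Y : Scheme.{u}} (T : Y.Modules ⥤ Y.Modules) {U A : Y.Modules} {Q : ℕ → Y.Modules}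
    (t : ∀ m, Q (m + 1) ⟶ Q m) (y : ∀ m, A ⟶ Q m) (hy : ∀ m, y (m + 1) ≫ t m = y m) (v : U ⟶ T.obj A) (m : ℕ) :
    (v ≫ T.map (y (m + 1))) ≫ T.map (t m) = v ≫ T.map (y m) := by
  rw [Category.assoc, ← Functor.map_comp, hy]

section Formal

variable (k : Type u) [Field k] {X : Scheme.{u}} [X.Over (Spec (CommRingCat.of k))]
  [IsProper (X ↘ Spec (CommRingCat.of k))] {L : X.Modules} (s : Coh.structureModule X ⟶ L)

include k in
/-- Compatible maps from the structure sheaf come from the limit. -/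
theorem exists_hom_of_proZero (hL : CohB1.IsAmple L) {G : X.Modules} (hG : Coh.IsCoh G) {Q : ℕ → X.Modules}
    (p : ∀ m, G ⟶ Q m) [∀ m, Epi (p m)] (t : ∀ m, Q (m + 1) ⟶ Q m) (hpt : ∀ m, p (m + 1) ≫ t m = p m)
    (hker : ∀ (m : ℕ) (x : X) (v : stk G x), FLI.sMap (p m) x v = 0 ↔
      v ∈ IntMult.stalkIdeal ((PicF2.zeroScheme L s) ^ (m + 1)) x • (⊤ : Submodule (X.presheaf.stalk x) (stk G x)))
    (hd : ∀ x : X, IsClosed ({x} : Set X) → x ∉ ((PicF2.zeroScheme L s).support : Set X) →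
      ((1 + 1 : ℕ) : ℕ∞) ≤ LocCoh.depth (X.presheaf.stalk x) (G.presheaf.stalk x))
    (y : ∀ m, Coh.structureModule X ⟶ Q m) (hy : ∀ m, y (m + 1) ≫ t m = y m) :
    ∃ φ : Coh.structureModule X ⟶ G, ∀ m, φ ≫ p m = y m := by
  obtain ⟨-, hsur⟩ := ProVanLib.limit_of_proZero p hpt 1 (ProVanLib.proZero k s hL hG p t hpt hker 1 hd) 0
  obtain ⟨z, hz⟩ := hsur Nat.one_pos (fun m => ProVanLib.hom0 (y m)) fun m => by
    rw [← ProVanLib.hom0_comp, hy]
  refine ⟨ProVanLib.hom0.symm z, fun m => ProVanLib.hom0.injective ?_⟩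
  rw [ProVanLib.hom0_comp, Equiv.apply_symm_apply, hz]

include k in
/-- Compatible maps from an invertible module come from the limit. -/
theorem exists_hom_of_formal_gen [IsLocallyNoetherian X] (hL : CohB1.IsAmple L)
    (hd : ∀ x : X, IsClosed ({x} : Set X) → x ∉ ((PicF2.zeroScheme L s).support : Set X) →
      (2 : ℕ∞) ≤ LocCoh.depth (X.presheaf.stalk x) (X.presheaf.stalk x))
    {C A : X.Modules} (hC : PicF.IsInvertible C) (vC : CohB1.tensorMod C A ≅ Coh.structureModule X)
    {P : X.Modules} (hP : FlatMod.IsFinLocFree P) {Q : ℕ → X.Modules} (q : ∀ m, P ⟶ Q m) (hq : ∀ m, Epi (q m))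
    (t : ∀ m, Q (m + 1) ⟶ Q m) (hqt : ∀ m, q (m + 1) ≫ t m = q m)
    (hker : ∀ (m : ℕ) (x : X) (v : stk P x), FLI.sMap (q m) x v = 0 ↔
      v ∈ IntMult.stalkIdeal ((PicF2.zeroScheme L s) ^ (m + 1)) x • (⊤ : Submodule (X.presheaf.stalk x) (stk P x)))
    (y : ∀ m, A ⟶ Q m) (hy : ∀ m, y (m + 1) ≫ t m = y m) :
    ∃ φ : A ⟶ P, ∀ m, φ ≫ q m = y m := by
  let T := CurvLib.tensorLeft' C
  haveI hTe : T.IsEquivalence := VBP1Lib.isEquivalence_tensor vC
  haveI : ∀ m, Epi (T.map (q m)) := fun m => by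
    haveI := hq m
    exact T.map_epi _
  have hGc : Coh.IsCoh (T.obj P) := by
    haveI : AlgebraicGeometry.IsNoetherian X := CurvLib.isNoetherian k (X := X)
    exact HilbPolyLib.isCoh_tensor hC (LocSuppLib.isCoh_of_isFinLocFree hP)
  have hk : ∀ (m : ℕ) (x : X) (v : stk (T.obj P) x), FLI.sMap (T.map (q m)) x v = 0 ↔
      v ∈ IntMult.stalkIdeal ((PicF2.zeroScheme L s) ^ (m + 1)) x •
        (⊤ : Submodule (X.presheaf.stalk x) (stk (T.obj P) x)) := by
    intro m x v
    obtain ⟨g, hg⟩ := ProVanLib.exists_gen hC x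
    have hb : ∀ N : X.Modules, Function.Bijective (ins C N x g) := fun N => bijective_ins C N x g hg
    obtain ⟨w, rfl⟩ := (hb _).2 v
    rw [← ProVanLib.mem_smul_top_iff _ (hb _), show T.map (q m) = ((DCoh.tensorBi (X := X)).obj C).map (q m) from rfl,
      ProVanLib.sMap_map₂_ins, ← hker]
    exact ⟨fun h => (hb _).1 (h.trans (map_zero _).symm), fun h => (congrArg _ h).trans (map_zero _)⟩
  obtain ⟨ψ, hψ⟩ := exists_hom_of_proZero k s hL hGc (fun m => T.map (q m)) (fun m => T.map (t m))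
    (fun m => by rw [← Functor.map_comp, hqt]) hk (fun x hx hxI => by
      obtain ⟨g, hg⟩ := ProVanLib.exists_gen hC x
      exact (LocSuppLib.le_depth_stalk hP x (hd x hx hxI)).trans_eq
        (CommAlgDim.depth_congr (LinearEquiv.ofBijective _ (bijective_ins C P x g hg))))
    (fun m => vC.inv ≫ T.map (y m)) (map_compat T t y hy vC.inv)
  obtain ⟨φ, hφ⟩ := T.map_surjective (vC.hom ≫ ψ)
  refine ⟨φ, fun m => T.map_injective ((cancel_epi vC.inv).1 ?_)⟩
  rw [← hψ m, Functor.map_comp, hφ, Category.assoc, Iso.inv_hom_id_assoc]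

include k in
/-- **Formal maps into a locally free module are algebraic.** -/
theorem exists_hom_of_formal [IsLocallyNoetherian X] (hL : CohB1.IsAmple L)
    (hd : ∀ x : X, IsClosed ({x} : Set X) → x ∉ ((PicF2.zeroScheme L s).support : Set X) →
      (2 : ℕ∞) ≤ LocCoh.depth (X.presheaf.stalk x) (X.presheaf.stalk x))
    {C A : X.Modules} (hC : PicF.IsInvertible C) (vC : CohB1.tensorMod C A ≅ Coh.structureModule X)
    {P : X.Modules} (hP : FlatMod.IsFinLocFree P)
    (y : ∀ n, A ⟶ lev (PicF2.zeroScheme L s) (complMod (PicF2.zeroScheme L s) P) n)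
    (hy : ∀ n, y (n + 1) ≫ FCohLib.gTr (PicF2.zeroScheme L s) (complMod (PicF2.zeroScheme L s) P) n = y n) :
    ∃ φ : A ⟶ P, ∀ n, φ ≫ cπ (PicF2.zeroScheme L s) P n = y n :=
  exists_hom_of_formal_gen k s hL hd hC vC hP (cπ (PicF2.zeroScheme L s) P) (cπ_epi _ P)
    (FCohLib.gTr (PicF2.zeroScheme L s) (complMod (PicF2.zeroScheme L s) P)) (cπ_gTr _ P)
    (fun m x v => by
      haveI := FComplLib.isClosedImmersion_completionToX X (PicF2.zeroScheme L s) m
      rw [← show (completionToX X (PicF2.zeroScheme L s) m).ker = (PicF2.zeroScheme L s) ^ (m + 1) from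
        Scheme.IdealSheafData.ker_subschemeι _]
      exact ProVanLib.mem_ker_unit_iff (completionToX X (PicF2.zeroScheme L s) m) P x v) y hy

end Formal

end FormalAlgzAmpleLib
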