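import Groth.Agent.PerfCompLib.Theta
import Groth.Agent.KFlatLib.StalkTensor
import Groth.Agent.GrTildeLib.MulTwist
import Groth.Agent.HilbPolyLib.Twist
import Groth.Agent.NegTwistLib.Main
import Groth.Agent.ProjFormLib.Frame

/-!
# Multiplication by a section of an invertible sheaf
-/

set_option autoImplicit false
set_option backward.isDefEq.respectTransparency false
set_option backward.isDefEq.respectTransparency.types false
set_option maxHeartbeats 800000

universe u

open CategoryTheory CategoryTheory.Limits AlgebraicGeometry TopologicalSpace Opposite MonoidalCategory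

noncomputable section

namespace FormalAlgzAmpleLib

open KFlatLib in
theorem tensUnitIso_hom_one {X : Scheme.{u}} (N : X.Modules) (U : X.Opens) (m : Γ(N, U)) :
    (tensUnitIso N).hom.app U (shApp (Coh.structureModule X) N U
      (tm (DCoh.toP.obj (Coh.structureModule X) : PM X.presheaf) (DCoh.toP.obj N : PM X.presheaf)
        (show Γ(Coh.structureModule X, U) from (1 : Γ(X, U))) m)) = m := by
  let adj := PresheafOfModules.sheafificationAdjunction.{u} (R := X.ringCatSheaf) (𝟙 X.ringCatSheaf.obj)
  let s := tm (DCoh.toP.obj (Coh.structureModule X) : PM X.presheaf) (DCoh.toP.obj N : PM X.presheaf)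
    (show Γ(Coh.structureModule X, U) from (1 : Γ(X, U))) m
  have h1 := adj.unit.naturality (λ_ (DCoh.toP.obj N)).hom
  have h2 := adj.right_triangle_components N
  refine Eq.trans (congrArg (Scheme.Modules.Hom.app (show _ ⟶ N from adj.counit.app N) U)
    (congr($(h1).app (op U) s)).symm) ?_
  refine Eq.trans (congr($(h2).app (op U) (((λ_ (DCoh.toP.obj N)).hom).app (op U) s))) ?_
  exact one_smul (Γ(X, U) : Type u) (m : (Γ(N, U) : Type u))

variable {P : Scheme.{u}} (L : P.Modules) (ℓ : Coh.structureModule P ⟶ L)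

/-- Tensoring with `L`. -/
abbrev Tw : P.Modules ⥤ P.Modules := CurvLib.tensorLeft' L

/-- Multiplication by the section. -/
def mulBy : 𝟭 P.Modules ⟶ Tw L := PerfCompLib.tensUnitNat.inv ≫ (DCoh.tensorBi (X := P)).map ℓ

open KFlatLib in
theorem mulBy_app_section (F : P.Modules) (U : P.Opens) (m : Γ(F, U)) :
    ((mulBy L ℓ).app F).app U m = shApp L F U (tm (DCoh.toP.obj L : PM P.presheaf) (DCoh.toP.obj F : PM P.presheaf)
      (ℓ.app U (show Γ(Coh.structureModule P, U) from (1 : Γ(P, U)))) m) := by
  have h1 : (tensUnitIso F).inv.app U m = shApp (Coh.structureModule P) F U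
      (tm (DCoh.toP.obj (Coh.structureModule P) : PM P.presheaf) (DCoh.toP.obj F : PM P.presheaf)
        (show Γ(Coh.structureModule P, U) from (1 : Γ(P, U))) m) :=
    (congrArg ((tensUnitIso F).inv.app U) (tensUnitIso_hom_one F U m).symm).trans
      congr(Scheme.Modules.Hom.app $((tensUnitIso F).hom_inv_id) U _)
  show (((DCoh.tensorBi (X := P)).map ℓ).app F).app U ((tensUnitIso F).inv.app U m) = _
  rw [h1]
  exact shApp_map (M := Coh.structureModule P) (N := F) (DCoh.toP.map ℓ ▷ DCoh.toP.obj F) U _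

section Stalk

variable (y : P) {W : P.Opens} (hy : y ∈ W) {g : Γ(L, W)} (hg : AmpleLib.GenOn L g)

local notation "St" => DerSch.stalkFunctor P y
local notation "R" => P.presheaf.stalk y

open scoped TensorProduct in
/-- The stalk of a twist is the stalk, once a generator is chosen. -/
def twEquiv (F : P.Modules) : ((St).obj ((Tw L).obj F) : Type u) ≃ₗ[R] ((St).obj F : Type u) :=
  (LinearEquiv.ofBijective _ (KFlatLib.stalkTensorLin_bijective L F y)).symm ≪≫ₗ
    TensorProduct.congr (LinearEquiv.ofBijective (LinearMap.toSpanSingleton R _ (L.presheaf.germ W y hy g))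
      (hg.genAt hy)).symm (LinearEquiv.refl R (F.presheaf.stalk y)) ≪≫ₗ TensorProduct.lid R _

open scoped TensorProduct in
theorem twEquiv_symm_apply (F : P.Modules) (a : ((St).obj F : Type u)) :
    (twEquiv L y hy hg F).symm a = KFlatLib.stalkTensorLin L F y (L.presheaf.germ W y hy g ⊗ₜ[R] a) := by
  show KFlatLib.stalkTensorLin L F y
    ((TensorProduct.congr _ (LinearEquiv.refl R (F.presheaf.stalk y))) ((TensorProduct.lid R _).symm a)) = _
  rw [TensorProduct.lid_symm_apply, TensorProduct.congr_tmul]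
  simp only [LinearEquiv.ofBijective_apply, LinearEquiv.symm_symm, LinearMap.toSpanSingleton_apply,
    LinearEquiv.refl_apply, one_smul]

theorem twEquiv_natural {F G : P.Modules} (f : F ⟶ G) (b : ((St).obj ((Tw L).obj F) : Type u)) :
    twEquiv L y hy hg G (((St).map ((Tw L).map f)).hom b) = ((St).map f).hom (twEquiv L y hy hg F b) := by
  apply (twEquiv L y hy hg G).symm.injective
  rw [LinearEquiv.symm_apply_apply]
  obtain ⟨a, rfl⟩ := (twEquiv L y hy hg F).symm.surjective b
  rw [LinearEquiv.apply_symm_apply, twEquiv_symm_apply, twEquiv_symm_apply]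
  exact (congr($(KFlatLib.stalkTensorIso_natural_right (M := L) y f) ((L.presheaf.germ W y hy g) ⊗ₜ a))).symm

/-- The value of the section in the chosen generator. -/
def locVal : R :=
  (LinearEquiv.ofBijective (LinearMap.toSpanSingleton R _ (L.presheaf.germ W y hy g)) (hg.genAt hy)).symm
    (L.presheaf.germ W y hy (ℓ.app W (show Γ(Coh.structureModule P, W) from (1 : Γ(P, W)))))

open scoped TensorProduct in
theorem twEquiv_mulBy (F : P.Modules) (a : ((St).obj F : Type u)) :
    twEquiv L y hy hg F (((St).map ((mulBy L ℓ).app F)).hom a) = locVal L ℓ y hy hg • a := by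
  apply (twEquiv L y hy hg F).symm.injective
  rw [LinearEquiv.symm_apply_apply, map_smul, twEquiv_symm_apply]
  obtain ⟨U, hyU, m, rfl⟩ := ProjFormLib.exists_ger F y a
  rw [← ProjFormLib.ger_res F (inf_le_left : U ⊓ W ≤ U) y ⟨hyU, hy⟩ m]
  set m' := AmpleLib.res F (inf_le_left : U ⊓ W ≤ U) m
  have hres : L.presheaf.germ W y hy (ℓ.app W (show Γ(Coh.structureModule P, W) from (1 : Γ(P, W)))) =
      L.presheaf.germ (U ⊓ W) y ⟨hyU, hy⟩
        (ℓ.app (U ⊓ W) (show Γ(Coh.structureModule P, U ⊓ W) from (1 : Γ(P, U ⊓ W)))) := by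
    refine (TopCat.Presheaf.germ_res_apply L.presheaf (homOfLE (inf_le_right : U ⊓ W ≤ W)) y ⟨hyU, hy⟩ _).symm.trans ?_
    refine congrArg _ ((QCohLib.app_map ℓ (homOfLE inf_le_right) _).symm.trans ?_)
    exact congrArg _ (map_one (P.presheaf.map (homOfLE (inf_le_right : U ⊓ W ≤ W)).op).hom)
  have hsp : locVal L ℓ y hy hg • L.presheaf.germ W y hy g =
      L.presheaf.germ W y hy (ℓ.app W (show Γ(Coh.structureModule P, W) from (1 : Γ(P, W)))) :=
    (LinearEquiv.ofBijective (LinearMap.toSpanSingleton R _ (L.presheaf.germ W y hy g)) (hg.genAt hy)).apply_symm_apply _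
  refine Eq.trans ?_ ((KFlatLib.stalkTensorLin L F y).map_smul _ _)
  rw [TensorProduct.smul_tmul', hsp, hres]
  refine (ProjFormLib.ger_map _ y (show y ∈ U ⊓ W from ⟨hyU, hy⟩) m').trans ?_
  refine (congrArg (ProjFormLib.ger _ y (show y ∈ U ⊓ W from ⟨hyU, hy⟩)) (mulBy_app_section L ℓ F (U ⊓ W) m')).trans ?_
  exact (KFlatLib.stalkTensorLin_germ L F y (U := U ⊓ W) ⟨hyU, hy⟩ _ m').symm

end Stalk

end FormalAlgzAmpleLib
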