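import Groth.Agent.FormalAlgzAmpleLib.PnExt
import Groth.Agent.FormalAlgzAmpleLib.Twist
import Groth.Agent.EssZeroLib.Limit
import Groth.Agent.PnDualLib.Master
import Groth.Agent.PnDualLib.Eventually

/-!
# Maps of negative twists vanishing on cohomology
-/

set_option autoImplicit false
set_option linter.unusedSectionVars false
set_option linter.style.haveILetI false
set_option maxHeartbeats 800000
set_option backward.isDefEq.respectTransparency false
set_option backward.isDefEq.respectTransparency.types false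
universe u

open CategoryTheory CategoryTheory.Limits AlgebraicGeometry TopologicalSpace Opposite

noncomputable section

namespace FormalAlgzAmpleLib

open CohCmpLib (stk)
open KFlatLib (tens)
open ProjFormLib (ger ger_map)
open PnDualLib

/-- Stalks of a functor of modules identified with the stalks. -/
structure StalkModel {P : Scheme.{u}} (T : P.Modules ⥤ P.Modules) (y : P) where
  p : ∀ A : P.Modules, stk (T.obj A) y ≃ₗ[P.presheaf.stalk y] stk A y
  natural : ∀ {A B : P.Modules} (f : A ⟶ B) (v : stk (T.obj A) y), p B (sm (T.map f) y v) = sm f y (p A v)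

theorem nonempty_stalkModel {P : Scheme.{u}} {L : P.Modules} (hL : PicF.IsInvertible L) (y : P) :
    Nonempty (StalkModel (Tw L) y) := by
  obtain ⟨V, g, hy, hg⟩ := TwistLib.exists_genOn hL y
  exact ⟨⟨fun A => twEquiv L y hy hg A, fun f v => twEquiv_natural L y hy hg f v⟩⟩

variable (k : Type u) [Field k] (n : ℕ)
variable (F : (CohB1.ProjSpace n k).Modules) (hF : Coh.IsCoh F)

local notation "ℙ" => CohB1.ProjSpace n k
local notation "ω'" => Twist.twistProjSpace n k (-((n : ℤ) + 1))

/-- **Extension over high twists is local.** -/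
theorem exists_extends_twist (q : ℕ) : ∃ r₀ : ℕ, ∀ r : ℕ, r₀ ≤ r →
    ∀ Φ : (syz k n F hF (q + 1)).1 ⟶ (tw' k n (r : ℤ)).obj ω',
      (∀ y : CohB1.ProjSpace n k, ∃ b : stk (mid k n F hF q) y →ₗ[(CohB1.ProjSpace n k).presheaf.stalk y]
        stk ((tw' k n (r : ℤ)).obj ω') y, b.comp (sm (incl k n F hF q) y) = sm Φ y) →
      ∃ ψ : mid k n F hF q ⟶ (tw' k n (r : ℤ)).obj ω', incl k n F hF q ≫ ψ = Φ := by
  haveI := isNoetherian_projSpace k n
  let f₀ := preMap (dif k n F hF q) ω'
  haveI : Coh.IsQCoh (CohCmpLib.homMod (mid k n F hF q) ω') := (isCoh_dual k n F hF q).1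
  haveI : Coh.IsQCoh (CohCmpLib.homMod (mid k n F hF (q + 1)) ω') := (isCoh_dual k n F hF (q + 1)).1
  have hC : Coh.IsCoh (cokernel f₀) :=
    QCohLib.isCoh_cokernel f₀ (isCoh_dual k n F hF q).1 (isCoh_dual k n F hF (q + 1))
  obtain ⟨r₀, hr₀⟩ := lift_of_exact k n (ShortComplex.mk f₀ (cokernel.π f₀) (cokernel.condition f₀))
    (ShortComplex.exact_of_g_is_cokernel _ (cokernelIsCokernel f₀)) (isCoh_dual k n F hF q)
    (isCoh_dual k n F hF (q + 1)) hC
  refine ⟨r₀, fun r hr Φ hΦ => ?_⟩
  have hL := PicPnLib.twist_inv n k (r : ℤ)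
  let L := Twist.twistProjSpace n k (r : ℤ)
  let sec := fun i => secHom L (mid k n F hF i) ω'
  have hb : ∀ i, Function.Bijective (sec i) := fun i => secHom_bijective hL (isFinLocFree_mid k n F hF i) _
  obtain ⟨w, hw⟩ := (hb (q + 1)).2 ((cov k n F hF (q + 1)).g ≫ Φ)
  obtain ⟨v, hv⟩ := hr₀ r hr w (by
    refine ProjFormLib.section_ext _ _ fun y hy => ?_
    refine Eq.trans ?_ (CohCmpLib.ger_zero _ y hy).symm
    refine (ProjFormLib.ger_map _ y hy w).symm.trans ?_
    obtain ⟨b, hby⟩ := hΦ y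
    let τ := fun i => twHom L (mid k n F hF i) ω'
    have hτ : ∀ i, Function.Bijective (sm (τ i) y) := fun i => by
      haveI := isIso_twHom hL (isFinLocFree_mid k n F hF i) ω'
      exact ConcreteCategory.bijective_of_isIso ((DerSch.stalkFunctor ℙ y).map (τ i))
    let ev := fun i => CohCmpLib.evS (CohCmpLib.evMod (mid k n F hF i) (tens L ω')) y
    have hev : ∀ i, Function.Bijective (ev i) := fun i => CohCmpLib.homEv_evMod (isFinLocFree_mid k n F hF i) y
    obtain ⟨v₁, hv₁⟩ := (hev q).2 b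
    obtain ⟨v₀, rfl⟩ := (hτ q).2 v₁
    have hevw : ev (q + 1) (sm (τ (q + 1)) y (ger _ y hy w)) = sm ((cov k n F hF (q + 1)).g ≫ Φ) y := by
      refine (congrArg (ev (q + 1)) (ger_map (τ (q + 1)) y hy w)).trans ?_
      refine (CohCmpLib.evS_evMod _ y hy).trans ?_
      rw [← hw]
      show CohCmpLib.hVal ((τ (q + 1)).app ⊤ w) y hy = sm (HomCohLib.toHom ((τ (q + 1)).app ⊤ w)) y
      conv_lhs => rw [← HomCohLib.ofHom_toHom ((τ (q + 1)).app ⊤ w)]
      rfl
    have himg : sm ((tw' k n (r : ℤ)).map f₀) y v₀ = ger _ y hy w := (hτ (q + 1)).1 ((hev (q + 1)).1 (by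
      rw [hevw, sm_comp, ← hby, LinearMap.comp_assoc, ← sm_comp, ← hv₁]
      refine Eq.trans ?_ (evS_preMap (dif k n F hF q) (tens L ω') y (sm (τ q) y v₀))
      exact congrArg (ev (q + 1)) ((LinearMap.congr_fun (sm_comp _ _ y) v₀).symm.trans
        ((LinearMap.congr_fun (congrArg (fun z => sm z y) (twHom_natural (dif k n F hF q) L ω')) v₀).trans
          (LinearMap.congr_fun (sm_comp _ _ y) v₀)))))
    refine (congrArg (sm ((tw' k n (r : ℤ)).map (cokernel.π f₀)) y) himg.symm).trans ?_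
    refine (LinearMap.congr_fun (sm_comp _ _ y) v₀).symm.trans ?_
    refine (LinearMap.congr_fun (congrArg (fun z => sm z y) ((Functor.map_comp (tw' k n (r : ℤ)) f₀ (cokernel.π f₀)).symm.trans
      ((congrArg (tw' k n (r : ℤ)).map (cokernel.condition f₀)).trans (Functor.map_zero _ _ _)))) v₀).trans ?_
    rw [sm_zero, LinearMap.zero_apply])
  refine ⟨sec q v, ?_⟩
  haveI : Epi (cov k n F hF (q + 1)).g := (cov k n F hF (q + 1)).epi
  rw [← cancel_epi (cov k n F hF (q + 1)).g, ← Category.assoc]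
  exact (secHom_natural (dif k n F hF q) L ω' v).symm.trans ((congrArg (sec (q + 1)) hv).trans hw)

section Ladder

variable {u u' : ℤ} (η : tw' k n u ⟶ tw' k n u')

theorem hMap_syz_eq_zero (hu : u ≤ 0) (hu' : u' ≤ 0)
    (hext : ∀ (q : ℕ) (Φ : (tw' k n u').obj (syz k n F hF (q + 1)).1 ⟶ ω'), q + 2 = n →
      ∃ ψ : (tw' k n u).obj (mid k n F hF q) ⟶ ω',
        (tw' k n u).map (incl k n F hF q) ≫ ψ = η.app _ ≫ Φ) :
    ∀ (q i j : ℕ), i + (q + 1) = n → j + q + 2 = n → ∀ x,
      CurvLib.hMap (k := k) (η.app (syz k n F hF j).1) i x = 0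
  | 0, i, j, hi, hj, x => by
    have h₂ : Subsingleton (Coh.HH ℙ ((tw' k n u').obj (mid k n F hF j)) i) :=
      subsingleton_twist_neg k n _ _ _ (by have := (cov k n F hF j).big; omega) i (by omega)
    refine injective_del (k := k) (twisted_shortExact k n F hF u' j) h₂ ?_
    rw [map_zero]
    let φ : (syzSeq k n F hF j).map (tw' k n u) ⟶ (syzSeq k n F hF j).map (tw' k n u') :=
      ShortComplex.homMk (η.app _) (η.app _) (η.app _) (η.naturality _).symm (η.naturality _).symm
    refine (EssZeroLib.hDel_natural (k := k) (twisted_shortExact k n F hF u j)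
      (twisted_shortExact k n F hF u' j) φ i x).trans ?_
    obtain rfl : i + 1 = n := by omega
    haveI : Module.Free k (Coh.HH (CohB1.ProjSpace (i + 1) k)
        ((syzSeq k (i + 1) F hF j).map (tw' k (i + 1) u')).X₁ (i + 1)) := Module.Free.of_divisionRing k _
    refine (Module.forall_dual_apply_eq_zero_iff k _).1 fun f => ?_
    obtain ⟨Φ, rfl⟩ := (pair_bijective k (i + 1) _ (isCoh_tw' k (i + 1) u' (syz k (i + 1) F hF (j + 1)).2)).2 f
    obtain ⟨ψ, hψ⟩ := hext j Φ (by omega)
    refine (pair_comp _ φ.τ₁ Φ _).symm.trans ?_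
    refine (congrArg (fun z => pair (trace k (i + 1)).toLinearMap _ z _) (show φ.τ₁ ≫ Φ = _ from hψ.symm)).trans ?_
    refine (pair_comp _ _ ψ _).trans ?_
    have hz : ∀ z, CurvLib.hMap (k := k) ((tw' k (i + 1) u).map (incl k (i + 1) F hF j)) (i + 1)
        (CurvLib.hDel (k := k) (twisted_shortExact k (i + 1) F hF u j) i z) = 0 := fun z => by
      have := CurvLib.exact₁ (k := k) (twisted_shortExact k (i + 1) F hF u j) i
      exact LinearMap.mem_ker.1 (this ▸ LinearMap.mem_range_self _ z)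
    exact (congrArg _ (hz x)).trans (map_zero _)
  | q + 1, i, j, hi, hj, x => by
    have h₂ : Subsingleton (Coh.HH ℙ ((tw' k n u').obj (mid k n F hF j)) i) :=
      subsingleton_twist_neg k n _ _ _ (by have := (cov k n F hF j).big; omega) i (by omega)
    refine injective_del (k := k) (twisted_shortExact k n F hF u' j) h₂ ?_
    rw [map_zero]
    let φ : (syzSeq k n F hF j).map (tw' k n u) ⟶ (syzSeq k n F hF j).map (tw' k n u') :=
      ShortComplex.homMk (η.app _) (η.app _) (η.app _) (η.naturality _).symm (η.naturality _).symm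
    refine (EssZeroLib.hDel_natural (k := k) (twisted_shortExact k n F hF u j)
      (twisted_shortExact k n F hF u' j) φ i x).trans ?_
    exact hMap_syz_eq_zero hu hu' hext q (i + 1) (j + 1) (by omega) (by omega) _

end Ladder

include hF in
/-- **Maps of negative twists that act on Ext by a killing scalar vanish on the first cohomology.** -/
theorem exists_hMap_eq_zero (q : ℕ) (hq : q + 2 = n) : ∃ m₀ : ℕ, ∀ u u' : ℤ, u ≤ -(m₀ : ℤ) → u' ≤ 0 →
    ∀ η : tw' k n u ⟶ tw' k n u',
      (∀ y : CohB1.ProjSpace n k, ∃ (r : (CohB1.ProjSpace n k).presheaf.stalk y) (p : StalkModel (tw' k n u) y)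
        (p' : StalkModel (tw' k n u') y), (∀ A v, p'.p A (sm (η.app A) y v) = r • p.p A v) ∧
          ∀ e : ExtAt k n F y (q + 1), r • e = 0) →
      ∀ x, CurvLib.hMap (k := k) (η.app F) 1 x = 0 := by
  obtain ⟨r₀, hr₀⟩ := exists_extends_twist k n F hF q
  refine ⟨r₀, fun u u' hu hu' η hη x => ?_⟩
  refine hMap_syz_eq_zero k n F hF η (by omega) hu' (fun q' Φ hq' => ?_) q 1 0 (by omega) (by omega) x
  obtain rfl : q' = q := by omega
  obtain ⟨r, hr⟩ : ∃ r : ℕ, (r : ℤ) = -u := ⟨(-u).toNat, by omega⟩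
  let Tu := tw' k n u
  let Tr := tw' k n (r : ℤ)
  let adj := (twistEquiv k n u (r : ℤ) (by omega)).toAdjunction
  let f : Tu.obj (syz k n F hF (q' + 1)).1 ⟶ ω' := η.app _ ≫ Φ
  obtain ⟨ψ, hψ⟩ := hr₀ r (by omega) (adj.homEquiv _ _ f) fun y => by
    obtain ⟨s, p, p', hp, hs⟩ := hη y
    obtain ⟨b, hb⟩ := (smul_extAt_iff_killsAt k n F hF y s q').1 hs
      ((sm Φ y).comp (p'.p (syz k n F hF (q' + 1)).1).symm.toLinearMap)
    obtain ⟨m⟩ := nonempty_stalkModel (PicPnLib.twist_inv n k (r : ℤ)) y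
    have hf : ∀ z, sm f y z = b (p.p _ (sm (Tu.map (incl k n F hF q')) y z)) := fun z => by
      rw [p.natural, show b (sm (incl k n F hF q') y (p.p _ z)) = _ from LinearMap.congr_fun hb (p.p _ z),
        LinearMap.smul_apply, ← map_smul, ← hp]
      rw [LinearMap.comp_apply, LinearEquiv.coe_coe, LinearEquiv.symm_apply_apply]
      exact LinearMap.congr_fun (sm_comp (η.app _) Φ y) z
    refine ⟨(m.p ω').symm.toLinearMap.comp (b.comp ((p.p _).toLinearMap.comp
      ((m.p (Tu.obj (mid k n F hF q'))).toLinearMap.comp (sm (adj.unit.app (mid k n F hF q')) y)))), ?_⟩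
    refine LinearMap.ext fun v => (m.p ω').injective ?_
    rw [adj.homEquiv_unit, sm_comp]
    simp only [LinearMap.comp_apply, LinearEquiv.coe_coe, LinearEquiv.apply_symm_apply]
    refine Eq.trans ?_ (m.natural f _).symm
    rw [hf]
    refine congrArg (fun z => b (p.p _ z)) ?_
    refine Eq.trans ?_ (m.natural (Tu.map (incl k n F hF q')) _)
    refine congrArg (m.p _) ?_
    refine (LinearMap.congr_fun (sm_comp _ _ y) v).symm.trans (Eq.trans ?_ (LinearMap.congr_fun (sm_comp _ _ y) v))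
    exact LinearMap.congr_fun (congrArg (fun z => sm z y) (adj.unit.naturality (incl k n F hF q'))) v
  refine ⟨(adj.homEquiv _ _).symm ψ, ?_⟩
  exact (adj.homEquiv_naturality_left_symm _ ψ).symm.trans ((congrArg (adj.homEquiv _ _).symm hψ).trans
    ((adj.homEquiv _ _).symm_apply_apply f))

end FormalAlgzAmpleLib
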