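import Groth.Agent.FormalAlgzAmpleLib.HomologyKill
import Groth.Agent.EssZeroLib.Main

/-!
# The section of a twist cutting out a power of the divisor
-/

set_option autoImplicit false
set_option linter.unusedSectionVars false
set_option backward.isDefEq.respectTransparency false
set_option backward.isDefEq.respectTransparency.types false
set_option maxHeartbeats 1600000
universe u

open CategoryTheory CategoryTheory.Limits AlgebraicGeometry TopologicalSpace Opposite
open ProjFormLib (ger ger_res ger_smul ger_map exists_ger)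
open CohCmpLib (stk)
open PnDualLib (sm)
open KFlatLib (puSec pb pf)
open EssZeroLib (GenVal one bijective_one ger_fun_eq)

noncomputable section

namespace FormalAlgzAmpleLib

theorem genVal_associated {X : Scheme.{u}} {T : X.Modules} {σ : T ⟶ Coh.structureModule X} {y : X} {t t' : stk T y}
    {a a' : X.presheaf.stalk y} (h : GenVal σ y t a) (h' : GenVal σ y t' a') : Associated a a' := by
  obtain ⟨c, hc⟩ := h'.1.2 t
  obtain ⟨d, hd⟩ := h.1.2 t'
  have hcd : c * d = 1 := h.1.1 (by
    show (c * d) • t = (1 : X.presheaf.stalk y) • t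
    rw [mul_comm, one_smul, mul_smul]
    conv_rhs => rw [← hc]
    rw [← hd]
    exact smul_comm d c t)
  have e : a' = d * a := (bijective_one y).1 (by
    show a' • one X y = (d * a) • one X y
    rw [mul_smul, ← h'.2, ← h.2, ← map_smul]
    exact congrArg (sm σ y) hd.symm)
  exact ⟨Units.mkOfMulEqOne d c (by rw [mul_comm]; exact hcd), by rw [e, mul_comm]; rfl⟩

section Dual

variable {P : Scheme.{u}} (L T : P.Modules) (ν : Coh.structureModule P ≅ (Tw L).obj T)
  (σ : T ⟶ Coh.structureModule P) (ρ : (Tw L).obj (Coh.structureModule P) ≅ L)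

/-- The section dual to a map out of an inverse. -/
def dualSec : Coh.structureModule P ⟶ L := ν.hom ≫ (Tw L).map σ ≫ ρ.hom

theorem associated_dualSec (y : P) {V : P.Opens} (hy : y ∈ V) {g : Γ(L, V)} (hg : AmpleLib.GenOn L g)
    {t : stk T y} {a : P.presheaf.stalk y} (h : GenVal σ y t a) :
    Associated a (locVal L (dualSec L T ν σ ρ) y hy hg) := by
  let St := DerSch.stalkFunctor P y
  have hb : ∀ {A B : P.Modules} (e : A ≅ B), Function.Bijective (sm e.hom y) := fun e =>
    (ConcreteCategory.isIso_iff_bijective (St.map e.hom)).1 inferInstance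
  have hgen : ∀ {A B : P.Modules} (φ : stk A y →ₗ[P.presheaf.stalk y] stk B y), Function.Bijective φ →
      ∀ v, Function.Bijective (fun c : P.presheaf.stalk y => c • v) →
        Function.Bijective (fun c : P.presheaf.stalk y => c • φ v) := fun φ hφ v hv => by
    rw [show (fun c : P.presheaf.stalk y => c • φ v) = φ ∘ fun c => c • v from funext fun c => (map_smul φ c v).symm]
    exact hφ.comp hv
  let τ : stk T y := twEquiv L y hy hg T (sm ν.hom y (one P y))
  have hτ : Function.Bijective fun c : P.presheaf.stalk y => c • τ :=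
    hgen (twEquiv L y hy hg T).toLinearMap (twEquiv L y hy hg T).bijective _
      (hgen (sm ν.hom y) (hb ν) _ (bijective_one y))
  obtain ⟨a', ha'⟩ := (bijective_one y).2 (sm σ y τ)
  refine (genVal_associated h ⟨hτ, ha'.symm⟩).trans ?_
  let γ : stk L y := sm ρ.hom y ((twEquiv L y hy hg (Coh.structureModule P)).symm (one P y))
  have hγ : Function.Bijective fun c : P.presheaf.stalk y => c • γ :=
    hgen (sm ρ.hom y) (hb ρ) _ (hgen (twEquiv L y hy hg _).symm.toLinearMap (twEquiv L y hy hg _).symm.bijective _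
      (bijective_one y))
  have hval : sm (dualSec L T ν σ ρ) y (one P y) = a' • γ := by
    rw [dualSec, EssZeroLib.sm_comp', EssZeroLib.sm_comp']
    have e1 : sm ((Tw L).map σ) y (sm ν.hom y (one P y)) =
        a' • (twEquiv L y hy hg (Coh.structureModule P)).symm (one P y) := by
      apply (twEquiv L y hy hg (Coh.structureModule P)).injective
      rw [map_smul, LinearEquiv.apply_symm_apply]
      exact (twEquiv_natural L y hy hg σ _).trans ha'.symm
    rw [e1, map_smul]
  have hloc : sm (dualSec L T ν σ ρ) y (one P y) =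
      locVal L (dualSec L T ν σ ρ) y hy hg • L.presheaf.germ V y hy g := by
    refine Eq.trans ?_ (locVal_spec L (dualSec L T ν σ ρ) y hy hg).symm
    refine (ger_map (dualSec L T ν σ ρ) y (U := ⊤) trivial _).trans ?_
    exact germ_app_one L (dualSec L T ν σ ρ) y (le_top : V ≤ ⊤) hy
  obtain ⟨e, he⟩ := (hg.genAt hy).2 γ
  obtain ⟨e', he'⟩ := hγ.2 (L.presheaf.germ V y hy g)
  have hee : e' * e = 1 := (hg.genAt hy).1 (by
    show (e' * e) • L.presheaf.germ V y hy g = (1 : P.presheaf.stalk y) • L.presheaf.germ V y hy g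
    rw [one_smul, mul_smul]
    exact (congrArg (e' • ·) he).trans he')
  refine ⟨Units.mkOfMulEqOne e e' (by rw [mul_comm]; exact hee), (hg.genAt hy).1 ?_⟩
  show (a' * e) • L.presheaf.germ V y hy g = locVal L (dualSec L T ν σ ρ) y hy hg • L.presheaf.germ V y hy g
  rw [← hloc, hval, mul_smul]
  exact congrArg (a' • ·) he

end Dual

variable {k : Type u} [Field k] {X : Scheme.{u}} [X.Over (Spec (CommRingCat.of k))]
  [IsProper (X ↘ Spec (CommRingCat.of k))] {L : X.Modules} (s : Coh.structureModule X ⟶ L)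

/-- An embedding with a section of a twist cutting out a power of the zero scheme. -/
structure Data (k : Type u) [Field k] {X : Scheme.{u}} {L : X.Modules} (s : Coh.structureModule X ⟶ L) where
  N : ℕ
  q : ℕ
  hq : 1 ≤ q
  i : X ⟶ CohB1.ProjSpace N k
  closed : IsClosedImmersion i
  ℓ : Coh.structureModule (CohB1.ProjSpace N k) ⟶ Twist.twistProjSpace N k (q : ℤ)
  D : ℕ
  hD : 1 ≤ D
  val : ∀ z : X, ∃ (V : X.affineOpens) (t : Γ(X, V.1)) (hz : z ∈ V.1),
    (PicF2.zeroScheme L s).ideal V = Ideal.span {t} ∧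
      (∀ (p : ℕ) (v : X.presheaf.stalk z), X.presheaf.germ V.1 z hz t ^ p * v = 0 →
        X.presheaf.germ V.1 z hz t ^ D * v = 0) ∧
      ∀ (W : (CohB1.ProjSpace N k).Opens) (hy : i z ∈ W) (g : Γ(Twist.twistProjSpace N k (q : ℤ), W))
        (hg : AmpleLib.GenOn (Twist.twistProjSpace N k (q : ℤ)) g),
        Associated (i.stalkMap z (locVal (Twist.twistProjSpace N k (q : ℤ)) ℓ (i z) hy hg))
          (X.presheaf.germ V.1 z hz t ^ D)

variable (k) in
theorem nonempty_data (hL : CohB1.IsAmple L) : Nonempty (Data k s) := by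
  haveI := CurvLib.isNoetherian k (X := X)
  obtain ⟨M, σ₁, hM, hLM, hA⟩ := EssZeroLib.exists_adapted_transpose L hL.1 s
  obtain ⟨c, hc⟩ := EssZeroLib.exists_ann_bound_all hA.hasCharts
  obtain ⟨N, d, i, hd0, hi, -, ⟨e₁⟩⟩ := PnDualLib.exists_closedImm_pow k hL
  haveI := hi
  obtain ⟨q₀, hlift⟩ := EssZeroLib.exists_lift_section i
  let q := q₀ + 1 + c
  let D := d * q
  have hDc : c ≤ D := le_trans (Nat.le_add_left c (q₀ + 1)) (Nat.le_mul_of_pos_left q hd0)
  obtain ⟨eM⟩ := PnDualLib.nonempty_inv_pow i hLM e₁ q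
  obtain ⟨eW⟩ := EssZeroLib.nonempty_W_pow M D
  let ε : pb i (Twist.twistProjSpace N k (-(q : ℤ))) ≅ (EssZeroLib.W M D).obj (Coh.structureModule X) :=
    eM.symm ≪≫ eW.symm
  obtain ⟨σ, hσ⟩ := hlift q (by omega) (ε.hom ≫ EssZeroLib.tau σ₁ D (Coh.structureModule X))
  obtain ⟨e0⟩ := PicPnLib.twist_add N k (q : ℤ) (-(q : ℤ))
  obtain ⟨eO⟩ := PicPnLib.twist_zero N k
  let T := Twist.twistProjSpace N k (-(q : ℤ))
  let Lq := Twist.twistProjSpace N k (q : ℤ)
  let ν : Coh.structureModule (CohB1.ProjSpace N k) ≅ (Tw Lq).obj T :=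
    (e0 ≪≫ eqToIso (by rw [add_neg_cancel]) ≪≫ eO).symm
  let ρ : (Tw Lq).obj (Coh.structureModule (CohB1.ProjSpace N k)) ≅ Lq :=
    HilbPolyLib.swapIso _ _ ≪≫ PerfCompLib.tensUnitNat.app Lq
  refine ⟨⟨N, q, by omega, i, hi, dualSec Lq T ν σ ρ, D, Nat.one_le_iff_ne_zero.2 (Nat.mul_ne_zero hd0.ne' (by omega)),
    fun z => ?_⟩⟩
  obtain ⟨V, t, hz, hV, hval⟩ := hA z
  obtain ⟨t₁, ht₁⟩ := hval z hz
  refine ⟨V, t, hz, hV, fun p v hv => ?_, fun W hy g hg => ?_⟩
  · have h1 := hc z p t₁ _ ht₁ v hv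
    rw [← Nat.sub_add_cancel hDc, pow_add, mul_assoc, h1, mul_zero]
  obtain ⟨t', ht'⟩ := EssZeroLib.exists_genVal_pow ht₁ D
  have ht'' := EssZeroLib.genVal_iso ε ht'
  obtain ⟨U, g', hU, hg'⟩ := TwistLib.exists_genOn (PicPnLib.twist_inv N k (-(q : ℤ))) (i z)
  let c' : Γ(CohB1.ProjSpace N k, U) := show Γ(CohB1.ProjSpace N k, U) from σ.app U g'
  have hP : GenVal σ (i z) (ger T (i z) hU g') ((CohB1.ProjSpace N k).presheaf.germ U (i z) hU c') :=
    ⟨hg'.genAt hU, (ger_map σ (i z) hU g').trans (ger_fun_eq (i z) hU c')⟩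
  have hX : GenVal (ε.hom ≫ EssZeroLib.tau σ₁ D (Coh.structureModule X)) z
      (ger (pb i T) z (U := i ⁻¹ᵁ U) hU (puSec i g')) (X.presheaf.germ (i ⁻¹ᵁ U) z hU (i.app U c')) := by
    refine ⟨(AmpleDevLib.puSec_genOn i hg').genAt hU, ?_⟩
    refine (ger_map _ z _ _).trans ((ger_fun_eq z _ _).trans (congrArg (· • one X z) ?_))
    exact congrArg (X.presheaf.germ (i ⁻¹ᵁ U) z hU) (hσ U g')
  have e3 := genVal_associated hX ht''
  rw [← Scheme.Hom.germ_stalkMap_apply] at e3
  exact ((associated_dualSec Lq T ν σ ρ (i z) hy hg hP).symm.map (i.stalkMap z).hom).trans e3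

end FormalAlgzAmpleLib
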