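import Mathlib.Algebra.Homology.DerivedCategory.Ext.Linear
import Mathlib.Algebra.Homology.DerivedCategory.Ext.ExtClass
import Mathlib.Algebra.Homology.DerivedCategory.Ext.ExactSequences

/-!
# Multiplication by `x ^ c` on `Ext` of `S / x ^ (2 c) S`
-/

set_option autoImplicit false
universe w t v u

open CategoryTheory CategoryTheory.Limits CategoryTheory.Abelian

noncomputable section

namespace FormalAlgzAmpleLib

variable {R : Type t} [CommRing R] {C : Type u} [Category.{v} C] [Abelian C] [Linear R C] [HasExt.{w} C]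

/-- `mk₀` of `r • 𝟙` acts as multiplication by `r`. -/
theorem smul_id_comp {A Y : C} {n : ℕ} (r : R) (α : Ext A Y n) :
    (Ext.mk₀ (r • 𝟙 A)).comp α (zero_add n) = r • α := by
  rw [Ext.mk₀_smul, Ext.smul_comp, Ext.mk₀_id_comp]

/-- If multiplication by `a` kills `Extʲ(S, Y)` and `Extʲ⁺¹(S, Y)`, it kills `Extʲ⁺¹(Q', Y)` for the cokernel `Q'`
of multiplication by `a * a` on `S`. -/
theorem smul_ext_eq_zero {S Q Q' Y : C} (a : R) {π : S ⟶ Q} {π' : S ⟶ Q'}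
    {w : (a • 𝟙 S) ≫ π = 0} {w' : ((a * a) • 𝟙 S) ≫ π' = 0}
    (h : (ShortComplex.mk (a • 𝟙 S) π w).ShortExact)
    (h' : (ShortComplex.mk ((a * a) • 𝟙 S) π' w').ShortExact) {j : ℕ}
    (h₀ : ∀ e : Ext S Y j, a • e = 0) (h₁ : ∀ e : Ext S Y (j + 1), a • e = 0)
    (e : Ext Q' Y (j + 1)) : a • e = 0 := by
  haveI : Epi π' := h'.epi_g
  haveI : Epi π := h.epi_g
  obtain ⟨p, hp⟩ : ∃ p : Q' ⟶ Q, π' ≫ p = π :=
    ⟨h'.exact.desc π (by
      show ((a * a) • 𝟙 S) ≫ π = 0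
      have : ((a * a) • 𝟙 S) = (a • 𝟙 S) ≫ (a • 𝟙 S) := by
        rw [Linear.smul_comp, Category.id_comp, smul_smul]
      rw [this, Category.assoc, w, comp_zero]), h'.exact.g_desc _ _⟩
  obtain ⟨i, hi⟩ : ∃ i : Q ⟶ Q', π ≫ i = a • π' :=
    ⟨h.exact.desc (a • π') (by
      show (a • 𝟙 S) ≫ (a • π') = 0
      rw [Linear.smul_comp, Category.id_comp, smul_smul]
      rw [Linear.smul_comp, Category.id_comp] at w'
      exact w'), h.exact.g_desc _ _⟩
  have hpi : p ≫ i = a • 𝟙 Q' := by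
    rw [← cancel_epi π', ← Category.assoc, hp, hi, Linear.comp_smul, Category.comp_id]
  have hz : (Ext.mk₀ π).comp ((Ext.mk₀ i).comp e (zero_add (j + 1))) (zero_add (j + 1)) = 0 := by
    rw [Ext.mk₀_comp_mk₀_assoc, hi, Ext.mk₀_smul, Ext.smul_comp, h₁]
  obtain ⟨y, hy⟩ := Ext.contravariant_sequence_exact₃ h Y ((Ext.mk₀ i).comp e (zero_add (j + 1))) hz
    (show 1 + j = j + 1 by omega)
  let φ : ShortComplex.mk ((a * a) • 𝟙 S) π' w' ⟶ ShortComplex.mk (a • 𝟙 S) π w :=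
    { τ₁ := a • 𝟙 S
      τ₂ := 𝟙 S
      τ₃ := p
      comm₁₂ := by
        show (a • 𝟙 S) ≫ (a • 𝟙 S) = ((a * a) • 𝟙 S) ≫ 𝟙 S
        rw [Category.comp_id, Linear.smul_comp, Category.id_comp, smul_smul]
      comm₂₃ := by
        show 𝟙 S ≫ π = π' ≫ p
        rw [Category.id_comp, hp] }
  have hnat := h'.extClass_naturality h φ
  calc a • e = (Ext.mk₀ (p ≫ i)).comp e (zero_add (j + 1)) := by rw [hpi, smul_id_comp]
    _ = (Ext.mk₀ p).comp ((Ext.mk₀ i).comp e (zero_add (j + 1))) (zero_add (j + 1)) :=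
        (Ext.mk₀_comp_mk₀_assoc _ _ _).symm
    _ = (Ext.mk₀ p).comp (h.extClass.comp y (show 1 + j = j + 1 by omega)) (zero_add (j + 1)) := by rw [hy]
    _ = ((Ext.mk₀ p).comp h.extClass (zero_add 1)).comp y (show 1 + j = j + 1 by omega) :=
        (Ext.comp_assoc _ _ _ (zero_add 1) (by omega) (by omega)).symm
    _ = (h'.extClass.comp (Ext.mk₀ (a • 𝟙 S)) (add_zero 1)).comp y (show 1 + j = j + 1 by omega) := by
        exact congrArg (fun t => t.comp y (show 1 + j = j + 1 by omega)) hnat.symm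
    _ = h'.extClass.comp ((Ext.mk₀ (a • 𝟙 S)).comp y (zero_add j)) (show 1 + j = j + 1 by omega) :=
        Ext.comp_assoc _ _ _ (add_zero 1) (zero_add j) (by omega)
    _ = 0 := by rw [smul_id_comp, h₀, Ext.comp_zero]

/-- The property passes to retracts of finite sums. -/
theorem smul_ext_eq_zero_of_sum {A B Y : C} {ι : Type*} [Fintype ι] (a : R) (f : ι → (A ⟶ B)) (g : ι → (B ⟶ A))
    (hfg : ∑ i, f i ≫ g i = 𝟙 A) {n : ℕ} (hB : ∀ e : Ext B Y n, a • e = 0) (e : Ext A Y n) : a • e = 0 := by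
  have h1 : e = ∑ i, (Ext.mk₀ (f i ≫ g i)).comp e (zero_add n) := by
    rw [← Ext.sum_comp, ← Ext.mk₀_sum, hfg, Ext.mk₀_id_comp]
  rw [h1, Finset.smul_sum]
  refine Finset.sum_eq_zero fun i _ => ?_
  rw [← Ext.mk₀_comp_mk₀_assoc, ← Ext.comp_smul, hB, Ext.comp_zero]

end FormalAlgzAmpleLib
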