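import Groth.Agent.FormalAlgzAmpleLib.PnExt
import Groth.Agent.FormalAlgzAmpleLib.Twist
import Groth.Agent.EssZeroLib.Kill
import Groth.Agent.PnDualLib.Master

/-!
# A uniform power of the section killing Ext
-/

set_option autoImplicit false
set_option linter.unusedSectionVars false
set_option linter.style.haveILetI false
set_option maxHeartbeats 800000
set_option backward.isDefEq.respectTransparency false
set_option backward.isDefEq.respectTransparency.types false
universe u

open CategoryTheory CategoryTheory.Limits AlgebraicGeometry TopologicalSpace Opposite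

noncomputable section

namespace FormalAlgzAmpleLib

open CohCmpLib (stk)

section Gen

variable {P : Scheme.{u}} (L : P.Modules) (ℓ : Coh.structureModule P ⟶ L) (y : P)
  {V : P.Opens} (hy : y ∈ V) {g : Γ(L, V)} (hg : AmpleLib.GenOn L g)
  {V' : P.Opens} (hy' : y ∈ V') {g' : Γ(L, V')} (hg' : AmpleLib.GenOn L g')

theorem locVal_spec : locVal L ℓ y hy hg • L.presheaf.germ V y hy g =
    L.presheaf.germ V y hy (ℓ.app V (show Γ(Coh.structureModule P, V) from (1 : Γ(P, V)))) :=
  (LinearEquiv.ofBijective (LinearMap.toSpanSingleton _ _ (L.presheaf.germ V y hy g)) (hg.genAt hy)).apply_symm_apply _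

theorem germ_app_one {V V' : P.Opens} (h : V' ≤ V) (hy : y ∈ V') :
    L.presheaf.germ V y (h hy) (ℓ.app V (show Γ(Coh.structureModule P, V) from (1 : Γ(P, V)))) =
      L.presheaf.germ V' y hy (ℓ.app V' (show Γ(Coh.structureModule P, V') from (1 : Γ(P, V')))) := by
  refine (TopCat.Presheaf.germ_res_apply L.presheaf (homOfLE h) y hy _).symm.trans ?_
  refine congrArg _ ((QCohLib.app_map ℓ (homOfLE h) _).symm.trans ?_)
  exact congrArg _ (map_one (P.presheaf.map (homOfLE h).op).hom)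

theorem locVal_associated : Associated (locVal L ℓ y hy hg) (locVal L ℓ y hy' hg') := by
  obtain ⟨a, ha⟩ := (hg.genAt hy).2 (L.presheaf.germ V' y hy' g')
  obtain ⟨b, hb⟩ := (hg'.genAt hy').2 (L.presheaf.germ V y hy g)
  have hab : b * a = 1 := (hg.genAt hy).1 (by
    show (b * a) • L.presheaf.germ V y hy g = (1 : P.presheaf.stalk y) • L.presheaf.germ V y hy g
    rw [one_smul, mul_smul]
    exact (congrArg (b • ·) ha).trans hb)
  have e : locVal L ℓ y hy' hg' * a = locVal L ℓ y hy hg := (hg.genAt hy).1 (by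
    show (locVal L ℓ y hy' hg' * a) • L.presheaf.germ V y hy g = locVal L ℓ y hy hg • L.presheaf.germ V y hy g
    rw [mul_smul, locVal_spec L ℓ y hy hg]
    refine (congrArg (locVal L ℓ y hy' hg' • ·) ha).trans ((locVal_spec L ℓ y hy' hg').trans ?_)
    exact (germ_app_one L ℓ y (inf_le_right : V ⊓ V' ≤ V') ⟨hy, hy'⟩).trans
      (germ_app_one L ℓ y (inf_le_left : V ⊓ V' ≤ V) ⟨hy, hy'⟩).symm)
  exact ⟨Units.mkOfMulEqOne b a hab, by
    rw [← e]
    show locVal L ℓ y hy' hg' * a * b = _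
    rw [mul_assoc, mul_comm a b, hab, mul_one]⟩

end Gen

theorem exists_pow_kill {P : Scheme.{u}} [CompactSpace P] (L : P.Modules) (hL : PicF.IsInvertible L)
    (ℓ : Coh.structureModule P ⟶ L) (N : P.Modules) (hN : Coh.IsCoh N)
    (h : ∀ (y : P) (V : P.Opens) (hy : y ∈ V) (g : Γ(L, V)) (hg : AmpleLib.GenOn L g),
      IsUnit (locVal L ℓ y hy hg) → Subsingleton (N.presheaf.stalk y)) :
    ∃ c : ℕ, ∀ (y : P) (V : P.Opens) (hy : y ∈ V) (g : Γ(L, V)) (hg : AmpleLib.GenOn L g) (v : stk N y),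
      locVal L ℓ y hy hg ^ c • v = 0 := by
  classical
  haveI := hN.1
  have hch : ∀ x : P, ∃ (V : P.affineOpens) (g : Γ(L, V.1)) (f : Γ(P, V.1)), x ∈ V.1 ∧ ∃ hg : AmpleLib.GenOn L g,
      ∀ (y : P) (hy : y ∈ V.1), P.presheaf.germ V.1 y hy f = locVal L ℓ y hy hg := fun x => by
    obtain ⟨U, g, hxU, hg⟩ := TwistLib.exists_genOn hL x
    obtain ⟨W, hW, hxW, hWU⟩ := exists_isAffineOpen_mem_and_subset hxU
    have hg' := hg.res (show W ≤ U from hWU)
    obtain ⟨f, hf⟩ := (hg' W le_rfl).2 (ℓ.app W (show Γ(Coh.structureModule P, W) from (1 : Γ(P, W))))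
    refine ⟨⟨W, hW⟩, _, f, hxW, hg', fun y hy => (hg'.genAt hy).1 ?_⟩
    refine Eq.trans ?_ (locVal_spec L ℓ y hy hg').symm
    dsimp only at hf ⊢
    refine Eq.trans ?_ (congrArg (L.presheaf.germ W y hy) hf)
    rw [AmpleLib.germ_smul, AmpleLib.germ_res, AmpleLib.germ_res]
    exact congrArg _ (AmpleLib.germ_res L _ g hy).symm
  choose V g f hx hg hf using hch
  choose c hc using fun x => EssZeroLib.exists_pow_chart N hN.2 (V x) (f x) fun y hy => by
    have hy' := P.basicOpen_le (f x) hy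
    exact h y _ hy' _ (hg x) (by rw [← hf x y hy']; exact (P.mem_basicOpen (f x) y hy').1 hy)
  obtain ⟨S, hS⟩ := isCompact_univ.elim_finite_subcover (fun x => ((V x).1 : Set P)) (fun x => (V x).1.2)
    fun x _ => Set.mem_iUnion.2 ⟨x, hx x⟩
  refine ⟨S.sum c, fun y W hyW γ hγ v => ?_⟩
  obtain ⟨x, hxS, hy⟩ := Set.mem_iUnion₂.1 (hS (Set.mem_univ y))
  obtain ⟨u, hu⟩ := locVal_associated L ℓ y hy (hg x) hyW hγ
  rw [← hu, mul_pow, ← Nat.sub_add_cancel (Finset.single_le_sum (fun j _ => Nat.zero_le (c j)) hxS), pow_add,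
    ← hf x y hy, mul_right_comm, mul_smul, hc, smul_zero]

open PnDualLib

variable (k : Type u) [Field k] (n : ℕ)

local notation "ℙ" => CohB1.ProjSpace n k
local notation "ω'" => Twist.twistProjSpace n k (-((n : ℤ) + 1))

/-- **A uniform power killing the Ext at the stalks.** -/
theorem exists_killsAt (L : (CohB1.ProjSpace n k).Modules) (hL : PicF.IsInvertible L)
    (ℓ : Coh.structureModule ℙ ⟶ L) (F : (CohB1.ProjSpace n k).Modules) (hF : Coh.IsCoh F) (j : ℕ)
    (h : ∀ (y : CohB1.ProjSpace n k) (V : (CohB1.ProjSpace n k).Opens) (hy : y ∈ V) (g : Γ(L, V))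
      (hg : AmpleLib.GenOn L g), IsUnit (locVal L ℓ y hy hg) → Subsingleton (ExtAt k n F y (j + 1))) :
    ∃ c : ℕ, ∀ (y : CohB1.ProjSpace n k) (V : (CohB1.ProjSpace n k).Opens) (hy : y ∈ V) (g : Γ(L, V))
      (hg : AmpleLib.GenOn L g), ∀ e : ExtAt k n F y (j + 1), locVal L ℓ y hy hg ^ c • e = 0 := by
  haveI := isNoetherian_projSpace k n
  let S := dualSeq k n F hF j
  have h₂ := isCoh_dual k n F hF (j + 1)
  have h₃ := isCoh_dual k n F hF (j + 1 + 1)
  let q := kernel.lift S.g S.f S.zero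
  have hK : Coh.IsCoh (kernel S.g) := QCohLib.isCoh_kernel S.g h₂ h₃.1
  haveI : Coh.IsQCoh S.X₁ := (isCoh_dual k n F hF j).1
  haveI := hK.1
  obtain ⟨c, hc⟩ := exists_pow_kill L hL ℓ (cokernel q)
    (QCohLib.isCoh_cokernel q (isCoh_dual k n F hF j).1 hK) fun y V hy g hg hu => by
      have hsurj : Function.Surjective (sm q y) := fun b => by
        have hgy : sm S.g y (sm (kernel.ι S.g) y b) = 0 :=
          LinearMap.congr_fun ((sm_comp _ _ y).symm.trans ((congrArg (fun z => sm z y) (kernel.condition S.g)).trans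
            (sm_zero _ _ y))) b
        have hX := (subsingleton_extAt_iff k n F hF y j 0).1 (h y V hy g hg hu)
        rw [Nat.zero_add] at hX
        obtain ⟨a, ha⟩ := (stalk_exact_iff k n F hF j y).2 hX _ hgy
        refine ⟨a, (ModuleCat.mono_iff_injective ((DerSch.stalkFunctor ℙ y).map (kernel.ι S.g))).1 inferInstance ?_⟩
        refine Eq.trans ?_ ha
        exact LinearMap.congr_fun ((sm_comp _ _ y).symm.trans (congrArg (fun z => sm z y) (kernel.lift_ι S.g S.f S.zero))) a
      refine subsingleton_of_forall_eq 0 fun z => ?_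
      obtain ⟨b, rfl⟩ := (ModuleCat.epi_iff_surjective ((DerSch.stalkFunctor ℙ y).map (cokernel.π q))).1 inferInstance z
      obtain ⟨a, rfl⟩ := hsurj b
      exact LinearMap.congr_fun ((sm_comp _ _ y).symm.trans ((congrArg (fun z => sm z y) (cokernel.condition q)).trans
        (sm_zero _ _ y))) a
  refine ⟨c, fun y V hy g hg => (smul_extAt_iff_killsAt k n F hF y _ j).2 fun a => ?_⟩
  let Φ := fun i => CohCmpLib.evS (CohCmpLib.evMod (mid k n F hF i) ω') y
  have hb : ∀ i, Function.Bijective (Φ i) := fun i => CohCmpLib.homEv_evMod (isFinLocFree_mid k n F hF i) y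
  obtain ⟨w, hw⟩ := (hb (j + 1)).2 (a.comp (sm (cov k n F hF (j + 1)).g y))
  have hker : sm S.g y w = 0 := (hb (j + 1 + 1)).1 (by
    refine (evS_preMap _ _ y w).trans (Eq.trans ?_ (map_zero (Φ (j + 1 + 1))).symm)
    show (Φ (j + 1) w).comp (sm (dif k n F hF (j + 1)) y) = 0
    rw [hw, dif, sm_comp]
    refine LinearMap.ext fun x => ?_
    show a (sm (cov k n F hF (j + 1)).g y (sm (incl k n F hF (j + 1)) y _)) = 0
    rw [show sm (cov k n F hF (j + 1)).g y (sm (incl k n F hF (j + 1)) y (sm (cov k n F hF (j + 1 + 1)).g y x)) = 0 from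
      LinearMap.congr_fun ((sm_comp _ _ y).symm.trans ((congrArg (fun z => sm z y) (kernel.condition _)).trans
        (sm_zero _ _ y))) _, map_zero])
  obtain ⟨w', hw'⟩ : ∃ w', sm (kernel.ι S.g) y w' = w :=
    (ShortComplex.moduleCat_exact_iff _).1 ((ShortComplex.exact_of_f_is_kernel
      (ShortComplex.mk _ _ (kernel.condition S.g)) (kernelIsKernel S.g)).map (DerSch.stalkFunctor ℙ y)) w hker
  obtain ⟨v, hv⟩ := (ShortComplex.moduleCat_exact_iff _).1 ((ShortComplex.exact_of_g_is_cokernel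
      (ShortComplex.mk _ _ (cokernel.condition q)) (cokernelIsCokernel q)).map (DerSch.stalkFunctor ℙ y))
      (locVal L ℓ y hy hg ^ c • w') (by
        refine (map_smul _ _ _).trans ?_
        exact hc y V hy g hg _)
  refine ⟨Φ j v, LinearMap.ext fun x => ?_⟩
  obtain ⟨z, rfl⟩ := DetRootLib.stalk_surjective (syzSeq_shortExact k n F hF (j + 1)) y x
  have h1 : sm S.f y v = locVal L ℓ y hy hg ^ c • w := by
    rw [← hw']
    refine Eq.trans ?_ ((map_smul (sm (kernel.ι S.g) y) _ _).trans rfl)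
    rw [← hv]
    exact LinearMap.congr_fun ((congrArg (fun z => sm z y) (kernel.lift_ι S.g S.f S.zero)).symm.trans (sm_comp _ _ y)) v
  have h2 : Φ (j + 1) (sm S.f y v) = (Φ j v).comp (sm (dif k n F hF j) y) := evS_preMap _ _ y v
  rw [h1, map_smul, hw, dif, sm_comp] at h2
  exact (LinearMap.congr_fun h2 z).symm

end FormalAlgzAmpleLib
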