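import Groth.Agent.DegPullLib.Rank
import Groth.Agent.DevissLib.Basic
import Groth.Agent.DevissLib.ClosedImm
import Groth.Agent.ProjFormLib.Frame

/-!
# Stalks of direct images along closed immersions
-/

set_option autoImplicit false
set_option linter.unusedSectionVars false
set_option backward.isDefEq.respectTransparency false
set_option backward.isDefEq.respectTransparency.types false
set_option maxHeartbeats 800000

universe u

open CategoryTheory CategoryTheory.Limits AlgebraicGeometry TopologicalSpace Opposite

noncomputable section

namespace FormalAlgzAmpleLib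

open ProjFormLib (ger ger_map exists_ger)

variable {X Y : Scheme.{u}} (f : X ⟶ Y) [IsClosedImmersion f]

/-- The stalk of a direct image at an image point. -/
def pe (G : X.Modules) (z : X) : ((Coh.push f).obj G).presheaf.stalk (f z) ≃+ G.presheaf.stalk z :=
  AddEquiv.ofBijective (TopCat.Presheaf.stalkPushforward AddCommGrpCat f.base G.presheaf z).hom
    (DegPullLib.bijective_stalkPushforward f f.isClosedEmbedding.isClosedMap G z
      fun _ hw => f.isClosedEmbedding.injective hw)

theorem pe_smul (G : X.Modules) (z : X) (c : Y.presheaf.stalk (f z))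
    (a : ((Coh.push f).obj G).presheaf.stalk (f z)) :
    pe f G z (c • a) = f.stalkMap z c • pe f G z a :=
  DegPullLib.stalkPushforward_smul f G z c a

theorem pe_ger (G : X.Modules) (z : X) {U : Y.Opens} (h : f z ∈ U) (s : Γ(G, f ⁻¹ᵁ U)) :
    pe f G z (ger ((Coh.push f).obj G) (f z) h (show Γ((Coh.push f).obj G, U) from s)) = ger G z h s :=
  ConcreteCategory.congr_hom (TopCat.Presheaf.stalkPushforward_germ AddCommGrpCat f.base G.presheaf U z h) s

theorem pe_natural {G G' : X.Modules} (g : G ⟶ G') (z : X)
    (a : ((Coh.push f).obj G).presheaf.stalk (f z)) :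
    pe f G' z (((DerSch.stalkFunctor Y (f z)).map ((Coh.push f).map g)).hom a) =
      ((DerSch.stalkFunctor X z).map g).hom (pe f G z a) := by
  obtain ⟨U, hU, s, rfl⟩ := exists_ger ((Coh.push f).obj G) (f z) a
  refine (congrArg (pe f G' z) (ger_map ((Coh.push f).map g) (f z) hU s)).trans ?_
  refine (pe_ger f G' z hU (g.app (f ⁻¹ᵁ U) s)).trans ?_
  exact (ger_map g z hU s).symm.trans (congrArg _ (pe_ger f G z hU s).symm)

/-- Off the image the stalk vanishes. -/
theorem subsingleton_push (G : X.Modules) {y : Y} (h : y ∉ Set.range f) :
    Subsingleton (((Coh.push f).obj G).presheaf.stalk y) :=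
  not_not.mp fun hs => h (DevissLib.support_push_subset f G hs)

end FormalAlgzAmpleLib
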