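import Groth.Agent.FormalAlgzAmpleLib.StalkSys
import Groth.Agent.FormalAlgzAmpleLib.PushStalk
import Groth.Agent.ProjLefLib.Bundle
import Groth.Agent.ProjLefLib.FlatSys
import Groth.Agent.FinLFAnnLib.Main

/-!
# Stalks of a levelwise locally free system
-/

set_option autoImplicit false
set_option linter.unusedSectionVars false
set_option linter.style.haveILetI false
set_option backward.isDefEq.respectTransparency false
set_option backward.isDefEq.respectTransparency.types false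
set_option maxHeartbeats 1600000

universe u

open CategoryTheory CategoryTheory.Limits AlgebraicGeometry TopologicalSpace Opposite FSch

noncomputable section

namespace FormalAlgzAmpleLib

open ProjFormLib (ger ger_map exists_ger ger_res ger_smul res exists_frame)

variable {X : Scheme.{u}} [IsLocallyNoetherian X] (𝓘 : X.IdealSheafData)

theorem range_completionToX (n : ℕ) : Set.range (completionToX X 𝓘 n) = (𝓘.support : Set X) :=
  (Scheme.IdealSheafData.range_subschemeι _).trans (by rw [Scheme.IdealSheafData.support_pow_succ])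

variable (𝔐 : ModSys (completionAlong X 𝓘))

/-- The transition on stalks. -/
def trStalk (z : X) (n : ℕ) :
    (DerSch.stalkFunctor X z).obj (ProjLefLib.lev 𝓘 𝔐 (n + 1)) →ₗ[X.presheaf.stalk z]
      (DerSch.stalkFunctor X z).obj (ProjLefLib.lev 𝓘 𝔐 n) :=
  ((DerSch.stalkFunctor X z).map (FCohLib.gTr 𝓘 𝔐 n)).hom

variable {𝓘} {𝔐}

theorem subsingleton_lev (n : ℕ) {z : X} (hz : z ∉ (𝓘.support : Set X)) :
    Subsingleton ((DerSch.stalkFunctor X z).obj (ProjLefLib.lev 𝓘 𝔐 n)) := by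
  haveI := FComplLib.isClosedImmersion_completionToX X 𝓘 n
  exact subsingleton_push (completionToX X 𝓘 n) (𝔐.F n) (by rw [range_completionToX]; exact hz)

variable {V : X.affineOpens} {t : Γ(X, V.1)}

theorem levelFree_stalk (hV : 𝓘.ideal V = Ideal.span {t}) (h𝔐 : LefX.LevelwiseFinLocFree 𝔐) (n : ℕ)
    {z : X} (hz : z ∈ V.1) :
    LevelFree (X.presheaf.germ V.1 z hz t) n ((DerSch.stalkFunctor X z).obj (ProjLefLib.lev 𝓘 𝔐 n)) := by
  haveI := FComplLib.isClosedImmersion_completionToX X 𝓘 n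
  let i := completionToX X 𝓘 n
  by_cases hzs : z ∈ Set.range i
  · obtain ⟨w, rfl⟩ := hzs
    obtain ⟨W, r, e, hw, he⟩ := exists_frame (h𝔐 n) w
    let b := he.basis w hw
    let P : (DerSch.stalkFunctor X (i w)).obj (ProjLefLib.lev 𝓘 𝔐 n) ≃+
        ((DerSch.stalkFunctor _ w).obj (𝔐.F n)) := pe i (𝔐.F n) w
    let φ : (Fin r → X.presheaf.stalk (i w)) →ₗ[X.presheaf.stalk (i w)]
        (DerSch.stalkFunctor X (i w)).obj (ProjLefLib.lev 𝓘 𝔐 n) :=
      Fintype.linearCombination (X.presheaf.stalk (i w)) fun j => P.symm (b j)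
    have hφ : ∀ c, P (φ c) = ∑ j, (i.stalkMap w) (c j) • b j := fun c => by
      rw [Fintype.linearCombination_apply, map_sum]
      exact Finset.sum_congr rfl fun j _ => (pe_smul i (𝔐.F n) w _ _).trans (by
        show _ • P (P.symm (b j)) = _
        rw [AddEquiv.apply_symm_apply]
        )
    refine ⟨r, φ, fun x => ?_, fun c => ⟨fun hc => ?_, ?_⟩⟩
    · choose d hd using fun j => i.stalkMap_surjective w (b.repr (P x) j)
      refine ⟨d, P.injective ?_⟩
      rw [hφ]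
      exact (Finset.sum_congr rfl fun j _ => by rw [hd]).trans (b.sum_repr _)
    · have h0 := hφ c
      rw [hc, map_zero] at h0
      have hj : ∀ j, c j ∈ RingHom.ker (i.stalkMap w).hom := fun j =>
        (Fintype.linearIndependent_iff.1 b.linearIndependent _ h0.symm j)
      rw [ProjLefLib.ker_level_stalk hV n w hz] at hj
      choose c' hc' using fun j => Ideal.mem_span_singleton'.1 (hj j)
      exact ⟨c', funext fun j => by rw [Pi.smul_apply, smul_eq_mul, mul_comm]; exact (hc' j).symm⟩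
    · rintro ⟨c', rfl⟩
      refine P.injective ?_
      rw [hφ, map_zero]
      refine Finset.sum_eq_zero fun j _ => ?_
      have h : X.presheaf.germ V.1 (i w) hz t ^ (n + 1) * c' j ∈ RingHom.ker (i.stalkMap w).hom := by
        rw [ProjLefLib.ker_level_stalk hV n w hz]
        exact Ideal.mul_mem_right _ _ (Ideal.mem_span_singleton_self _)
      rw [Pi.smul_apply, smul_eq_mul, show (i.stalkMap w) _ = 0 from h, zero_smul]
  · haveI := subsingleton_push i (𝔐.F n) hzs
    haveI : Subsingleton ((DerSch.stalkFunctor X z).obj (ProjLefLib.lev 𝓘 𝔐 n)) := this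
    exact ⟨0, 0, fun x => ⟨0, Subsingleton.elim _ _⟩,
      fun c => ⟨fun _ => ⟨0, funext fun j => j.elim0⟩, fun _ => rfl⟩⟩

theorem exists_chart_le (hV : 𝓘.ideal V = Ideal.span {t}) {z : X} (hz : z ∈ V.1) {U : X.Opens} (hzU : z ∈ U) :
    ∃ (W : X.affineOpens) (hWV : W.1 ≤ V.1), W.1 ≤ U ∧ z ∈ W.1 ∧
      𝓘.ideal W = Ideal.span {X.presheaf.map (homOfLE hWV).op t} := by
  obtain ⟨r, hrU, hzr⟩ := V.2.exists_basicOpen_le ⟨z, hzU⟩ hz
  refine ⟨X.affineBasicOpen r, X.basicOpen_le r, hrU, hzr, ?_⟩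
  rw [← 𝓘.map_ideal_basicOpen V r, hV, Ideal.map_span, Set.image_singleton]
  rfl

/-- **The stalks of the levels form a system of free modules over the quotients.** -/
theorem freeSys_stalk (hV : 𝓘.ideal V = Ideal.span {t}) (h𝔐 : LefX.LevelwiseFinLocFree 𝔐) {z : X}
    (hz : z ∈ V.1) : FreeSys (X.presheaf.germ V.1 z hz t)
      (L := fun n => ((DerSch.stalkFunctor X z).obj (ProjLefLib.lev 𝓘 𝔐 n))) (trStalk 𝓘 𝔐 z) := by
  have hQ : ∀ k, Coh.IsQCoh (𝔐.F k) := fun k => FinLFAnn.isQCoh_of_isFinLocFree (h𝔐 k)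
  refine ⟨fun n => levelFree_stalk hV h𝔐 n hz, fun n y => ?_, fun n x hx => ?_⟩
  · obtain ⟨U, hU, s, rfl⟩ := exists_ger (ProjLefLib.lev 𝓘 𝔐 n) z y
    obtain ⟨W, hWV, hWU, hzW, hW⟩ := exists_chart_le hV hz hU
    obtain ⟨m, hm⟩ := (ProjLefLib.gTr_affine hW hQ n).1 (res _ hWU s)
    refine ⟨ger _ z hzW m, ?_⟩
    exact (ger_map (FCohLib.gTr 𝓘 𝔐 n) z hzW m).trans ((congrArg _ hm).trans (ger_res _ hWU z hzW s))
  · obtain ⟨U, hU, s, rfl⟩ := exists_ger (ProjLefLib.lev 𝓘 𝔐 (n + 1)) z x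
    have h0 : ger (ProjLefLib.lev 𝓘 𝔐 n) z hU ((FCohLib.gTr 𝓘 𝔐 n).app U s) = 0 :=
      (ger_map (FCohLib.gTr 𝓘 𝔐 n) z hU s).symm.trans hx
    obtain ⟨U', hzU', i1, i2, he⟩ := (ProjLefLib.lev 𝓘 𝔐 n).presheaf.germ_eq z hU hU _ 0
      (h0.trans (map_zero _).symm)
    obtain ⟨W, hWV, hWU, hzW, hW⟩ := exists_chart_le hV hz hzU'
    have hWU₀ : W.1 ≤ U := hWU.trans i1.le
    have hm : (FCohLib.gTr 𝓘 𝔐 n).app W.1 (res _ hWU₀ s) = 0 := by
      have e1 : res (ProjLefLib.lev 𝓘 𝔐 n) hWU₀ ((FCohLib.gTr 𝓘 𝔐 n).app U s) = 0 := by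
        rw [map_zero] at he
        have := congrArg ((ProjLefLib.lev 𝓘 𝔐 n).presheaf.map (homOfLE hWU).op) he
        rw [map_zero] at this
        rw [← this]
        exact (ConcreteCategory.congr_hom ((ProjLefLib.lev 𝓘 𝔐 n).presheaf.map_comp i1.op (homOfLE hWU).op) _).trans rfl
      exact (ConcreteCategory.congr_hom ((FCohLib.gTr 𝓘 𝔐 n).mapPresheaf.naturality (homOfLE hWU₀).op) s).trans e1
    obtain ⟨m', hm'⟩ := ((ProjLefLib.gTr_affine hW hQ n).2 _).1 hm
    refine ⟨ger _ z hzW m', ?_⟩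
    rw [← ger_res _ hWU₀ z hzW s, ← hm', ger_smul, map_pow]
    congr 2
    exact TopCat.Presheaf.germ_res_apply X.presheaf (homOfLE hWV) z hzW t

end FormalAlgzAmpleLib
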