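import Groth.Agent.FormalAlgzAmpleLib.System
import Groth.Agent.FormalAlgzAmpleLib.Crit

/-!
# Multiplication by a power between negative twists
-/

set_option autoImplicit false
set_option linter.unusedSectionVars false
set_option linter.style.haveILetI false
set_option maxHeartbeats 800000
set_option backward.isDefEq.respectTransparency false
set_option backward.isDefEq.respectTransparency.types false
universe u

open CategoryTheory CategoryTheory.Limits AlgebraicGeometry TopologicalSpace Opposite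

noncomputable section

namespace FormalAlgzAmpleLib

open CohCmpLib (stk)
open PnDualLib

section Models

variable {P : Scheme.{u}} {y : P} {T T' : P.Modules ⥤ P.Modules}

/-- The models of a composite. -/
def StalkModel.comp (m : StalkModel T y) (m' : StalkModel T' y) : StalkModel (T ⋙ T') y where
  p A := (m'.p (T.obj A)).trans (m.p A)
  natural {A B} f v := by
    show m.p B (m'.p (T.obj B) (sm (T'.map (T.map f)) y v)) = sm f y (m.p A (m'.p (T.obj A) v))
    rw [m'.natural, m.natural]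

/-- The models transported along an isomorphism. -/
def StalkModel.ofIso (m : StalkModel T y) (e : T ≅ T') : StalkModel T' y where
  p A := (((DerSch.stalkFunctor P y).mapIso (e.app A)).toLinearEquiv.symm).trans (m.p A)
  natural {A B} f v := by
    show m.p B (sm (e.inv.app B) y (sm (T'.map f) y v)) = sm f y (m.p A (sm (e.inv.app A) y v))
    rw [← m.natural]
    refine congrArg (m.p B) ?_
    exact (LinearMap.congr_fun (sm_comp _ _ y) v).symm.trans
      ((LinearMap.congr_fun (congrArg (fun z => sm z y) (e.inv.naturality f)) v).trans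
        (LinearMap.congr_fun (sm_comp _ _ y) v))

theorem StalkModel.ofIso_p (m : StalkModel T y) (e : T ≅ T') (A : P.Modules) (v : stk (T'.obj A) y) :
    (m.ofIso e).p A v = m.p A (sm (e.inv.app A) y v) := rfl

variable (L : P.Modules) (ℓ : Coh.structureModule P ⟶ L) {V : P.Opens} (hy : y ∈ V) {g : Γ(L, V)}
  (hg : AmpleLib.GenOn L g)

/-- The models of the iterated twists. -/
def tnModel (c : ℕ) : StalkModel (Tn L c) y :=
  ⟨tnEquiv L y hy hg c, fun f v => tnEquiv_natural L y hy hg c f v⟩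

end Models

variable (k : Type u) [Field k] (n : ℕ)

local notation "ℙ" => CohB1.ProjSpace n k

/-- Iterated twists by `O(q)` are the twists by the multiples. -/
theorem nonempty_TnIso (q : ℕ) : ∀ a : ℕ,
    Nonempty (Tn (Twist.twistProjSpace n k (q : ℤ)) a ≅ tw' k n ((q * a : ℕ) : ℤ))
  | 0 => by
    obtain ⟨e⟩ := PnCohLib.exists_unitNat (n := n) k
    exact ⟨e.symm ≪≫ eqToIso (by simp)⟩
  | a + 1 => by
    obtain ⟨e⟩ := nonempty_TnIso q a
    obtain ⟨e'⟩ := PnCohLib.exists_twistNat (n := n) k ((q * a : ℕ) : ℤ) (q : ℤ) ((q * (a + 1) : ℕ) : ℤ)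
      (by push_cast; ring)
    exact ⟨Functor.isoWhiskerLeft _ e ≪≫ e'⟩

variable (F : (CohB1.ProjSpace n k).Modules) (hF : Coh.IsCoh F)

include hF in
/-- **The multiplications by a killing power vanish on negative twists.** -/
theorem exists_hMap_mpow_eq_zero (j q c : ℕ) (hj : j + 2 = n)
    (ℓ : Coh.structureModule ℙ ⟶ Twist.twistProjSpace n k (q : ℤ))
    (h : ∀ y : CohB1.ProjSpace n k, ∃ (V : (CohB1.ProjSpace n k).Opens) (hy : y ∈ V)
      (g : Γ(Twist.twistProjSpace n k (q : ℤ), V)) (hg : AmpleLib.GenOn _ g),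
      ∀ e : ExtAt k n F y (j + 1), locVal _ ℓ y hy hg ^ c • e = 0) :
    ∃ m₀ : ℕ, ∀ a m : ℕ, m₀ + q * a + q * c ≤ q * m → ∀ (K : (CohB1.ProjSpace n k).Modules),
      Nonempty ((tw' k n (-((q * m : ℕ) : ℤ))).obj F ≅ K) → ∀ x,
        CurvLib.hMap (k := k) ((Tn (Twist.twistProjSpace n k (q : ℤ)) a).map
          ((mpow (Twist.twistProjSpace n k (q : ℤ)) ℓ c).app K)) 1 x = 0 := by
  obtain ⟨m₀, hm₀⟩ := exists_hMap_eq_zero k n F hF j hj
  refine ⟨m₀, fun a m hm K ⟨eK⟩ => ?_⟩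
  let L := Twist.twistProjSpace n k (q : ℤ)
  let T₀ := tw' k n (-((q * m : ℕ) : ℤ))
  obtain ⟨ea⟩ := nonempty_TnIso k n q a
  obtain ⟨ec⟩ := nonempty_TnIso k n q c
  obtain ⟨t₁⟩ := PnCohLib.exists_twistNat (n := n) k ((q * a : ℕ) : ℤ) (-((q * m : ℕ) : ℤ))
    (((q * a : ℕ) : ℤ) - ((q * m : ℕ) : ℤ)) (by ring)
  obtain ⟨t₂⟩ := PnCohLib.exists_twistNat (n := n) k ((q * c : ℕ) : ℤ) (-((q * m : ℕ) : ℤ))
    (((q * c : ℕ) : ℤ) - ((q * m : ℕ) : ℤ)) (by ring)
  obtain ⟨t₃⟩ := PnCohLib.exists_twistNat (n := n) k ((q * a : ℕ) : ℤ) (((q * c : ℕ) : ℤ) - ((q * m : ℕ) : ℤ))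
    (((q * a : ℕ) : ℤ) + (((q * c : ℕ) : ℤ) - ((q * m : ℕ) : ℤ))) rfl
  let e₁ : T₀ ⋙ Tn L a ≅ tw' k n (((q * a : ℕ) : ℤ) - ((q * m : ℕ) : ℤ)) := Functor.isoWhiskerLeft T₀ ea ≪≫ t₁
  let e₂ : (T₀ ⋙ Tn L c) ⋙ Tn L a ≅ tw' k n (((q * a : ℕ) : ℤ) + (((q * c : ℕ) : ℤ) - ((q * m : ℕ) : ℤ))) :=
    Functor.isoWhiskerRight (Functor.isoWhiskerLeft T₀ ec ≪≫ t₂) (Tn L a) ≪≫ Functor.isoWhiskerLeft _ ea ≪≫ t₃
  let ν : T₀ ⋙ Tn L a ⟶ (T₀ ⋙ Tn L c) ⋙ Tn L a :=
    { app := fun A => (Tn L a).map ((mpow L ℓ c).app (T₀.obj A))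
      naturality := fun A B f => by
        show (Tn L a).map (T₀.map f) ≫ _ = _ ≫ (Tn L a).map ((Tn L c).map (T₀.map f))
        rw [← Functor.map_comp, ← Functor.map_comp, ← (mpow L ℓ c).naturality (T₀.map f)]
        rfl }
  have key := hm₀ _ _ (by omega) (by omega) (e₁.inv ≫ ν ≫ e₂.hom) fun y => by
    obtain ⟨V, hy, g, hg, hk⟩ := h y
    obtain ⟨m⟩ := nonempty_stalkModel (PicPnLib.twist_inv n k (-((q * m : ℕ) : ℤ))) y
    refine ⟨locVal L ℓ y hy hg ^ c, (m.comp (tnModel L hy hg a)).ofIso e₁,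
      ((m.comp (tnModel L hy hg c)).comp (tnModel L hy hg a)).ofIso e₂, fun A v => ?_, hk⟩
    rw [StalkModel.ofIso_p, StalkModel.ofIso_p]
    have hv : sm (e₂.inv.app A) y (sm ((e₁.inv ≫ ν ≫ e₂.hom).app A) y v) =
        sm ((Tn L a).map ((mpow L ℓ c).app (T₀.obj A))) y (sm (e₁.inv.app A) y v) := by
      refine (LinearMap.congr_fun (sm_comp _ _ y) v).symm.trans (Eq.trans ?_ (LinearMap.congr_fun (sm_comp _ _ y) v))
      refine LinearMap.congr_fun (congrArg (fun z => sm z y) ?_) v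
      simp only [NatTrans.comp_app, Category.assoc, Iso.hom_inv_id_app, Category.comp_id]
      rfl
    rw [hv]
    show m.p A (tnEquiv L y hy hg c _ (tnEquiv L y hy hg a _ (sm ((Tn L a).map ((mpow L ℓ c).app (T₀.obj A))) y _))) =
      locVal L ℓ y hy hg ^ c • m.p A (tnEquiv L y hy hg a _ (sm (e₁.inv.app A) y v))
    rw [tnEquiv_natural L y hy hg a, tnEquiv_mpow L ℓ y hy hg c, map_smul]
    rfl
  intro x
  have hz : ∀ z, CurvLib.hMap (k := k) (ν.app F) 1 z = 0 := fun z => by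
    have h1 := key (CurvLib.hMap (k := k) (e₁.hom.app F) 1 z)
    rw [← CurvLib.hMap_comp] at h1
    have h2 : e₁.hom.app F ≫ (e₁.inv ≫ ν ≫ e₂.hom).app F = ν.app F ≫ e₂.hom.app F := by simp
    rw [h2, CurvLib.hMap_comp] at h1
    have h3 : Function.Injective (CurvLib.hMap (k := k) (e₂.hom.app F) 1) := fun a b hab => by
      have := congrArg (CurvLib.hMap (k := k) (e₂.inv.app F) 1) hab
      rwa [← CurvLib.hMap_comp, ← CurvLib.hMap_comp, Iso.hom_inv_id_app, hMap_id, hMap_id] at this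
    exact h3 (h1.trans (map_zero _).symm)
  have hn : (Tn L a).map ((mpow L ℓ c).app K) =
      (Tn L a).map eK.inv ≫ ν.app F ≫ (Tn L a).map ((Tn L c).map eK.hom) := by
    show _ = (Tn L a).map eK.inv ≫ (Tn L a).map ((mpow L ℓ c).app (T₀.obj F)) ≫ _
    rw [← Functor.map_comp, ← Functor.map_comp, ← (mpow L ℓ c).naturality eK.hom, Functor.id_map,
      Iso.inv_hom_id_assoc]
  rw [hn, CurvLib.hMap_comp, CurvLib.hMap_comp]
  exact (congrArg _ (hz _)).trans (map_zero _)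

end FormalAlgzAmpleLib
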