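import Groth.Agent.FormalAlgzAmpleLib.System
import Groth.Agent.FormalAlgzAmpleLib.ExtKill
import Mathlib.Algebra.Category.ModuleCat.Ext.HasExt
import Mathlib.Algebra.Category.ModuleCat.EnoughInjectives
import Mathlib.Algebra.Homology.DerivedCategory.Ext.EnoughProjectives

/-!
# Multiplication by a power on the Ext modules of a level
-/

set_option autoImplicit false
set_option linter.unusedSectionVars false
set_option backward.isDefEq.respectTransparency false
set_option backward.isDefEq.respectTransparency.types false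
set_option maxHeartbeats 800000

universe u

open CategoryTheory CategoryTheory.Limits AlgebraicGeometry TopologicalSpace Opposite CategoryTheory.Abelian

noncomputable section

namespace FormalAlgzAmpleLib

variable {P : Scheme.{u}} {L : P.Modules} {ℓ : Coh.structureModule P ⟶ L} {G : Sys P} {c₀ : ℕ} {y : P}
  (M : Model L ℓ G c₀ y)

local notation "St" => DerSch.stalkFunctor P y

namespace Model

local notation "t" => locVal L ℓ y M.hy M.hg

/-- The multiples by the stable power. -/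
abbrev core : ModuleCat.{u} (P.presheaf.stalk y) :=
  ModuleCat.of _ (LinearMap.range (LinearMap.lsmul (P.presheaf.stalk y) M.D (t ^ (c₀ + 1))))

theorem toW_add (i : ℕ) (a b : M.D) : M.toW i (a + b) = M.toW i a + M.toW i b :=
  wι_inj M i (by rw [map_add, M.wι_toW, M.wι_toW, M.wι_toW, smul_add, map_add])

theorem toW_smul (i : ℕ) (r : P.presheaf.stalk y) (d : M.D) : M.toW i (r • d) = r • M.toW i d :=
  wι_inj M i (by rw [map_smul, M.wι_toW, M.wι_toW, ← map_smul, smul_comm])

theorem toW_congr (i : ℕ) {a b : M.D} (h : t ^ (c₀ + 1) • a = t ^ (c₀ + 1) • b) : M.toW i a = M.toW i b := by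
  have h0 : M.toW i (a - b) = 0 := (M.toW_eq_zero_iff i _).2 ⟨0, by rw [smul_zero, smul_sub, h, sub_self]⟩
  have h1 := M.toW_add i (a - b) b
  rw [sub_add_cancel, h0, zero_add] at h1
  exact h1

/-- The map of the core onto a level. -/
def coreπ (i : ℕ) : M.core ⟶ (St).obj (W G c₀ i) :=
  ModuleCat.ofHom (X := M.core) (Y := (St).obj (W G c₀ i))
    { toFun := fun x => M.toW i x.2.choose
      map_add' := fun a b => by
        rw [← M.toW_add]
        refine M.toW_congr i ?_
        rw [smul_add]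
        exact (a + b).2.choose_spec.trans (congr($(a.2.choose_spec.symm) + $(b.2.choose_spec.symm)))
      map_smul' := fun r a => by
        rw [RingHom.id_apply, ← M.toW_smul]
        refine M.toW_congr i ?_
        rw [smul_comm]
        exact (r • a).2.choose_spec.trans (congrArg (r • ·) a.2.choose_spec.symm) }

theorem coreπ_mk (i : ℕ) (d : M.D) : (M.coreπ i).hom (⟨t ^ (c₀ + 1) • d, d, rfl⟩ : M.core) = M.toW i d :=
  M.toW_congr i (⟨t ^ (c₀ + 1) • d, d, rfl⟩ : M.core).2.choose_spec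

theorem coreπ_zero (i : ℕ) : ((t ^ (i + 1)) • 𝟙 M.core) ≫ M.coreπ i = 0 :=
  ModuleCat.hom_ext (LinearMap.ext fun x => by
    obtain ⟨d, hd⟩ := x.2
    obtain rfl : x = ⟨t ^ (c₀ + 1) • d, d, rfl⟩ := Subtype.ext hd.symm
    show (M.coreπ i).hom (t ^ (i + 1) • (⟨t ^ (c₀ + 1) • d, d, rfl⟩ : M.core)) = 0
    rw [map_smul, coreπ_mk, ← M.toW_smul]
    refine (M.toW_eq_zero_iff i _).2 ⟨d, ?_⟩
    rw [smul_smul, ← pow_add, add_assoc])

theorem core_shortExact (i : ℕ) : (ShortComplex.mk _ _ (M.coreπ_zero i)).ShortExact := by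
  refine { exact := (ShortComplex.moduleCat_exact_iff _).2 fun x hx => ?_, mono_f := ?_, epi_g := ?_ }
  · obtain ⟨d, hd⟩ := x.2
    obtain rfl : x = ⟨t ^ (c₀ + 1) • d, d, rfl⟩ := Subtype.ext hd.symm
    obtain ⟨d', hd'⟩ := (M.toW_eq_zero_iff i d).1 ((M.coreπ_mk i d).symm.trans hx)
    refine ⟨⟨t ^ (c₀ + 1) • d', d', rfl⟩, Subtype.ext ?_⟩
    show t ^ (i + 1) • (t ^ (c₀ + 1) • d') = t ^ (c₀ + 1) • d
    rw [hd', smul_smul, ← pow_add]
    congr 2 <;> omega
  · refine (ModuleCat.mono_iff_injective _).2 ((injective_iff_map_eq_zero _).2 fun x hx => ?_)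
    obtain ⟨d, hd⟩ := x.2
    obtain rfl : x = ⟨t ^ (c₀ + 1) • d, d, rfl⟩ := Subtype.ext hd.symm
    have h1 : t ^ (i + 1) • (t ^ (c₀ + 1) • d) = 0 := congrArg Subtype.val hx
    exact Subtype.ext (M.stable (i + 1) d (by rw [add_comm, pow_add, mul_smul]; exact h1))
  · refine (ModuleCat.epi_iff_surjective _).2 fun w => ?_
    obtain ⟨d, rfl⟩ := M.toW_surjective i w
    exact ⟨⟨t ^ (c₀ + 1) • d, d, rfl⟩, M.coreπ_mk i d⟩

/-- **Killing the Ext of the levels.** -/
theorem smul_ext_level (c : ℕ) (Y : ModuleCat.{u} (P.presheaf.stalk y)) {j : ℕ}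
    (h₀ : ∀ e : Ext M.core Y j, t ^ (c + 1) • e = 0) (h₁ : ∀ e : Ext M.core Y (j + 1), t ^ (c + 1) • e = 0)
    (e : Ext ((St).obj (W G c₀ (2 * c + 1))) Y (j + 1)) : t ^ (c + 1) • e = 0 := by
  have h' := M.core_shortExact (2 * c + 1)
  have hpow : t ^ (2 * c + 1 + 1) = t ^ (c + 1) * t ^ (c + 1) := by rw [← pow_add]; congr 1; omega
  have key : ∀ (a : P.presheaf.stalk y) (w : (a • 𝟙 M.core) ≫ M.coreπ (2 * c + 1) = 0),
      a = t ^ (2 * c + 1 + 1) → (ShortComplex.mk _ _ w).ShortExact := by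
    rintro _ _ rfl
    exact h'
  exact smul_ext_eq_zero (t ^ (c + 1)) (M.core_shortExact c)
    (key _ (by rw [← hpow]; exact M.coreπ_zero _) hpow.symm) h₀ h₁ e

end Model

end FormalAlgzAmpleLib
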