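import Groth.Agent.FormalAlgzAmpleLib.LimLA
import Groth.Agent.FormalAlgzAmpleLib.PnTwist
import Groth.Agent.FormalAlgzAmpleLib.SysKill
import Groth.Agent.EssZeroLib.Limit
import Groth.Agent.PnCohLib.Serre
import Groth.Agent.CurvLib.Euler

/-!
# Sections of high twists of the first level lift to all levels
-/

set_option autoImplicit false
set_option linter.unusedSectionVars false
set_option linter.style.haveILetI false
set_option maxHeartbeats 800000
set_option backward.isDefEq.respectTransparency false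
set_option backward.isDefEq.respectTransparency.types false
universe u

open CategoryTheory CategoryTheory.Limits AlgebraicGeometry TopologicalSpace Opposite

noncomputable section

namespace FormalAlgzAmpleLib

section Gen

variable {P : Scheme.{u}} (L : P.Modules) (hL : PicF.IsInvertible L) (ℓ : Coh.structureModule P ⟶ L) (G : Sys P)
  (hG : G.Good L ℓ 0)

local notation "W₀" => W G 0

include hG in
theorem sig_succ_natural (i : ℕ) :
    wle G 0 (Nat.le_succ i) ≫ sig L ℓ G 0 hG i 1 =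
      sig L ℓ G 0 hG (i + 1) 1 ≫ (Tn L 1).map (wle G 0 (Nat.le_succ (i + 1))) := by
  haveI := epi_wle L ℓ G 0 hG (Nat.le_add_right (i + 1) 1)
  rw [← cancel_epi (wle G 0 (Nat.le_add_right (i + 1) 1)), ← Category.assoc, ← Category.assoc, wle_sig,
    ← (mpow L ℓ 1).naturality, Functor.id_map, wle_trans]
  exact (congrArg (· ≫ _) (wle_trans G 0 (Nat.le_succ i) (Nat.le_succ (i + 1))).symm).trans
    ((Category.assoc _ _ _).trans (congrArg (_ ≫ ·) (wle_sig L ℓ G 0 hG i 1)))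

include hG in
theorem tle_top (n : ℕ) : kernel.ι (G.tle (show 0 + n + 1 ≤ 0 + (n + 1) + 1 by omega)) ≫
    (mpow L ℓ 1).app (G.F (0 + (n + 1) + 1)) = 0 :=
  FComplLib.eq_zero_of_stalks _ fun y => ModuleCat.hom_ext (LinearMap.ext fun x => by
    obtain ⟨M⟩ := hG y
    rw [Functor.map_comp, ModuleCat.hom_comp, LinearMap.comp_apply]
    obtain ⟨d, hd⟩ := M.surj (0 + (n + 1) + 1) (((DerSch.stalkFunctor P y).map
      (kernel.ι (G.tle (show 0 + n + 1 ≤ 0 + (n + 1) + 1 by omega)))).hom x)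
    have h0 : (M.π (0 + n + 1)).hom d = 0 := by
      rw [← M.π_tle_apply (show 0 + n + 1 ≤ 0 + (n + 1) + 1 by omega), hd]
      exact congr(($((ShortComplex.mk _ _ (kernel.condition
        (G.tle (show 0 + n + 1 ≤ 0 + (n + 1) + 1 by omega)))).map (DerSch.stalkFunctor P y) |>.zero)).hom x)
    obtain ⟨d', rfl⟩ := (M.ker _ d).1 h0
    rw [← hd]
    apply (tnEquiv L y M.hy M.hg 1 _).injective
    refine (tnEquiv_mpow L ℓ y M.hy M.hg 1 _ _).trans ?_
    rw [ModuleCat.hom_zero, LinearMap.zero_apply, map_zero]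
    refine (map_smul (M.π _).hom _ _).symm.trans ((M.ker _ _).2 ⟨d', ?_⟩)
    rw [smul_smul, ← pow_add]
    congr 2 <;> omega)

include hG in
theorem epi_tle {a b : ℕ} (h : a ≤ b) : Epi (G.tle h) :=
  PerfCompLib.epi_of_stalks _ fun y => (ModuleCat.epi_iff_surjective _).2 fun x => by
    obtain ⟨M⟩ := hG y
    obtain ⟨d, rfl⟩ := M.surj a x
    exact ⟨(M.π b).hom d, M.π_tle_apply h d⟩

include hG in
theorem mpow_bottom : (mpow L ℓ 1).app (G.F 0) = 0 :=
  FComplLib.eq_zero_of_stalks _ fun y => ModuleCat.hom_ext (LinearMap.ext fun x => by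
    obtain ⟨M⟩ := hG y
    obtain ⟨d, rfl⟩ := M.surj 0 x
    apply (tnEquiv L y M.hy M.hg 1 _).injective
    refine (tnEquiv_mpow L ℓ y M.hy M.hg 1 _ _).trans ?_
    rw [ModuleCat.hom_zero, LinearMap.zero_apply, map_zero]
    exact (map_smul (M.π 0).hom _ _).symm.trans ((M.ker 0 _).2 ⟨d, rfl⟩))

include hL hG in
/-- Multiplication by the section carries a level into the divisible part of the next one. -/
theorem exists_sig_factor (n : ℕ) :
    ∃ x : G.F (0 + n + 1) ⟶ (Tn L 1).obj (W G 0 (n + 1)), wι G 0 n ≫ x = sig L ℓ G 0 hG n 1 := by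
  have h : 0 + n + 1 ≤ 0 + (n + 1) + 1 := by omega
  haveI := epi_tle L ℓ G hG h
  haveI := epi_tle L ℓ G hG (show 0 ≤ 0 + (n + 1) + 1 by omega)
  obtain ⟨y, hy⟩ : ∃ y : G.F (0 + n + 1) ⟶ (Tn L 1).obj (G.F (0 + (n + 1) + 1)),
      G.tle h ≫ y = (mpow L ℓ 1).app (G.F (0 + (n + 1) + 1)) :=
    ⟨(Abelian.epiIsCokernelOfKernel _ (kernelIsKernel (G.tle h))).desc
        (CokernelCofork.ofπ _ (tle_top L ℓ G hG n)),
      (Abelian.epiIsCokernelOfKernel _ (kernelIsKernel (G.tle h))).fac _ WalkingParallelPair.one⟩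
  have hy0 : y ≫ (Tn L 1).map (G.tle (show 0 ≤ 0 + (n + 1) + 1 by omega)) = 0 := by
    rw [← cancel_epi (G.tle h), comp_zero, ← Category.assoc, hy, ← (mpow L ℓ 1).naturality,
      mpow_bottom L ℓ G hG, comp_zero]
  let S := ShortComplex.mk (wι G 0 (n + 1)) _ (wι_cond G 0 (n + 1))
  have hS : S.ShortExact :=
    { exact := ShortComplex.exact_of_f_is_kernel _ (kernelIsKernel _)
      mono_f := inferInstanceAs (Mono (wι G 0 (n + 1)))
      epi_g := epi_tle L ℓ G hG _ }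
  have hT := shortExact_Tn L hL 1 hS
  haveI := hT.mono_f
  haveI : Mono ((Tn L 1).map (wι G 0 (n + 1))) := hT.mono_f
  refine ⟨hT.exact.lift y hy0, ?_⟩
  haveI := epi_wle L ℓ G 0 hG (Nat.le_add_right n 1)
  rw [← cancel_mono ((Tn L 1).map (wι G 0 (n + 1))), Category.assoc,
    show hT.exact.lift y hy0 ≫ (Tn L 1).map (wι G 0 (n + 1)) = y from hT.exact.lift_f y hy0,
    ← cancel_epi (wle G 0 (Nat.le_add_right n 1)), wle_ι_assoc, hy, ← Category.assoc (wle G 0 _), wle_sig]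
  exact (mpow L ℓ 1).naturality _

end Gen

variable (k : Type u) [Field k] (N : ℕ) (q : ℕ)

local notation "ℙ" => CohB1.ProjSpace N k
local notation "Lq" => Twist.twistProjSpace N k (q : ℤ)

open PnDualLib CurvLib

theorem exists_Tn_vanishing (hq : 1 ≤ q) (F : (CohB1.ProjSpace N k).Modules) (hF : Coh.IsCoh F) :
    ∃ a₀ : ℕ, ∀ a, a₀ ≤ a → Subsingleton (Coh.HH ℙ ((Tn Lq a).obj F) 1) := by
  obtain ⟨d₀, hd⟩ := PnCohLib.exists_vanishing_twist k F hF
  refine ⟨d₀.toNat, fun a ha => ?_⟩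
  obtain ⟨e⟩ := nonempty_TnIso k N q a
  exact SerreVanLib.subsingleton_HH_of_iso (e.app F ≪≫ HilbPolyLib.swapIso _ _) 1
    (hd _ (le_trans d₀.self_le_toNat (by exact_mod_cast le_trans ha (Nat.le_mul_of_pos_left a hq))) 1 one_pos)

variable (ℓ : Coh.structureModule (CohB1.ProjSpace N k) ⟶ Twist.twistProjSpace N k (q : ℤ))
  (G : Sys (CohB1.ProjSpace N k)) (hG : Sys.Good (Twist.twistProjSpace N k (q : ℤ)) ℓ G 0) (hcoh : ∀ n, Coh.IsCoh (G.F n))

/-- The hypothesis making the obstructions finite. -/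
def Killed : Prop :=
  (∀ i, IsZero (W G 0 i)) ∨ ∃ j : ℕ, j + 2 = N ∧ ∃ c : ℕ, ∀ y : CohB1.ProjSpace N k, ∃ M : Model Lq ℓ G 0 y,
    ∀ i, j ≤ i → i ≤ j + 1 → ∀ e : Abelian.Ext M.core
      (ModuleCat.of ((CohB1.ProjSpace N k).presheaf.stalk y) ((CohB1.ProjSpace N k).presheaf.stalk y)) i,
        locVal Lq ℓ y M.hy M.hg ^ (c + 1) • e = 0

include hcoh in
theorem isCoh_W (i : ℕ) : Coh.IsCoh (W G 0 i) := by
  haveI := isNoetherian_projSpace k N
  exact QCohLib.isCoh_kernel _ (hcoh _) (hcoh _).1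

/-- Transitions on cohomology. -/
def tH (a i : ℕ) : Coh.HH ℙ ((Tn Lq a).obj (W G 0 (i + 1))) 1 →ₗ[k] Coh.HH ℙ ((Tn Lq a).obj (W G 0 i)) 1 :=
  hMap (k := k) ((Tn Lq a).map (wle G 0 (Nat.le_succ i))) 1

/-- Multiplication on cohomology. -/
def σH (a i : ℕ) : Coh.HH ℙ ((Tn Lq a).obj (W G 0 i)) 1 →ₗ[k] Coh.HH ℙ ((Tn Lq (a + 1)).obj (W G 0 (i + 1))) 1 :=
  hMap (k := k) (N := (Tn Lq (a + 1)).obj (W G 0 (i + 1))) ((Tn Lq a).map (sig Lq ℓ G 0 hG i 1)) 1

/-- The compatible families. -/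
abbrev Cmp (a : ℕ) : Submodule k (∀ i, Coh.HH ℙ ((Tn Lq a).obj (W G 0 i)) 1) :=
  compat (V := fun i => Coh.HH ℙ ((Tn Lq a).obj (W G 0 i)) 1) (tH k N q G a)

theorem hMap_wle (a : ℕ) {s : ∀ n, Coh.HH ℙ ((Tn Lq a).obj (W G 0 n)) 1} (hs : s ∈ Cmp k N q G a) {i i' : ℕ}
    (h : i ≤ i') : hMap (k := k) ((Tn Lq a).map (wle G 0 h)) 1 (s i') = s i := by
  induction h with
  | refl =>
    rw [show wle G 0 (le_refl i) = 𝟙 _ from by
      rw [← cancel_mono (wι G 0 i), wle_ι, show G.tle (le_refl (0 + i + 1)) = 𝟙 _ from G.fn.map_id _, Category.comp_id,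
        Category.id_comp]]
    rw [CategoryTheory.Functor.map_id, PnDualLib.hMap_id]
  | @step m hm ih =>
    rw [← wle_trans G 0 hm (Nat.le_succ m), Functor.map_comp, hMap_comp]
    rw [show hMap (k := k) ((Tn Lq a).map (wle G 0 (Nat.le_succ m))) 1 (s (m + 1)) = s m from hs m, ih]

include hcoh hG in
theorem exists_determined (hk : Killed k N q ℓ G) (hq : 1 ≤ q) (a : ℕ) :
    ∃ n₀, ∀ s, s ∈ Cmp k N q G a → s n₀ = 0 → s = 0 := by
  have hLinv := PicPnLib.twist_inv N k (q : ℤ)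
  rcases hk with hz | ⟨j, hj, c, hM⟩
  · refine ⟨0, fun s hs _ => funext fun n => ?_⟩
    have h0 : IsZero ((Tn Lq a).obj (W G 0 n)) := (Tn Lq a).map_isZero (hz n)
    have e : 𝟙 ((Tn Lq a).obj (W G 0 n)) = 0 := h0.eq_of_src _ _
    rw [← PnDualLib.hMap_id (k := k) ((Tn Lq a).obj (W G 0 n)) 1 (s n), e, PnCohLib.hMap_zero]
    rfl
  · obtain ⟨m₀, hm₀⟩ := exists_hMap_mpow_eq_zero k N (W G 0 (2 * c + 1)) (isCoh_W k N G hcoh _) j q (c + 1) hj ℓ
      fun y => by
        obtain ⟨M, hM⟩ := hM y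
        exact ⟨M.V, M.hy, M.g, M.hg, fun e => M.smul_ext_level c _ (hM j le_rfl (by omega)) (hM (j + 1) (by omega) le_rfl) e⟩
    let n₀ := m₀ + a + 2 * (c + 1)
    refine ⟨n₀, fun s hs hz => ?_⟩
    have step : ∀ r, n₀ ≤ r + (c + 1) → s (r + (c + 1)) = 0 → s (r + 2 * (c + 1)) = 0 := fun r hr h0 => by
      have h₁ : r + (c + 1) ≤ r + 3 * (c + 1) := by omega
      have h₂ : r + 2 * (c + 1) ≤ r + 3 * (c + 1) := by omega
      haveI := epi_wle Lq ℓ G 0 hG h₁
      let S := ShortComplex.mk (kernel.ι (wle G 0 h₁)) _ (kernel.condition (wle G 0 h₁))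
      have hS : S.ShortExact := ShortComplex.ShortExact.mk (ShortComplex.exact_kernel _)
      have hSa := shortExact_Tn Lq hLinv a hS
      obtain ⟨η, hη⟩ : s (r + 3 * (c + 1)) ∈ LinearMap.range (hMap (k := k) (S.map (Tn Lq a)).f 1) := by
        rw [CurvLib.exact₂ hSa, LinearMap.mem_ker]
        exact (hMap_wle k N q G a hs h₁).trans h0
      -- the restriction factors through the multiplication
      obtain ⟨h, hh⟩ : ∃ h : (Tn Lq (c + 1)).obj S.X₁ ⟶ W G 0 (r + 2 * (c + 1)),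
          (mpow Lq ℓ (c + 1)).app S.X₁ ≫ h = kernel.ι (wle G 0 h₁) ≫ wle G 0 h₂ := by
        obtain ⟨i', hi'⟩ : ∃ i', i' = r + 2 * (c + 1) := ⟨_, rfl⟩
        have key : ∀ (i'' : ℕ) (_ : i'' = i' + (c + 1)) (h3 : r + (c + 1) ≤ i'') (h4 : i' ≤ i''),
            ∃ h : (Tn Lq (c + 1)).obj (kernel (wle G 0 h3)) ⟶ W G 0 i',
              (mpow Lq ℓ (c + 1)).app (kernel (wle G 0 h3)) ≫ h = kernel.ι (wle G 0 h3) ≫ wle G 0 h4 := by
          rintro _ rfl h3 h4
          have hE := sig_shortExact Lq ℓ G 0 hG i' c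
          haveI := hE.mono_f
          haveI : Mono (sig Lq ℓ G 0 hG i' (c + 1)) := hE.mono_f
          have hx : (Tn Lq (c + 1)).map (kernel.ι (wle G 0 h3)) ≫
              (Tn Lq (c + 1)).map (wle G 0 (show c ≤ i' + (c + 1) by omega)) = 0 := by
            rw [← wle_trans G 0 (show c ≤ r + (c + 1) by omega) h3, ← Functor.map_comp, kernel.condition_assoc,
              zero_comp, Functor.map_zero]
          refine ⟨hE.exact.lift _ hx, ?_⟩
          rw [← cancel_mono (sig Lq ℓ G 0 hG i' (c + 1)), Category.assoc, Category.assoc,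
            show hE.exact.lift _ hx ≫ sig Lq ℓ G 0 hG i' (c + 1) = _ from hE.exact.lift_f _ hx, wle_sig]
          exact ((mpow Lq ℓ (c + 1)).naturality _).symm
        subst hi'
        exact key _ (by omega) h₁ h₂
      -- the kernel is a negative twist of a fixed level
      obtain ⟨eK⟩ : Nonempty ((tw' k N (-((q * (r + (c + 1) + 1) : ℕ) : ℤ))).obj (W G 0 (2 * c + 1)) ≅ S.X₁) := by
        have key : ∀ (i'' : ℕ) (_ : i'' = 2 * c + 1 + (r + (c + 1) + 1)) (h3 : r + (c + 1) ≤ i''),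
            Nonempty (W G 0 (2 * c + 1) ≅ (Tn Lq (r + (c + 1) + 1)).obj (kernel (wle G 0 h3))) := by
          rintro _ rfl h3
          have hE := sig_shortExact Lq ℓ G 0 hG (2 * c + 1) (r + (c + 1))
          haveI := epi_wle Lq ℓ G 0 hG h3
          have hK := shortExact_Tn Lq hLinv (r + (c + 1) + 1)
            (S := ShortComplex.mk (kernel.ι (wle G 0 h3)) _ (kernel.condition (wle G 0 h3)))
            (ShortComplex.ShortExact.mk (ShortComplex.exact_kernel _))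
          exact ⟨IsLimit.conePointUniqueUpToIso hE.fIsKernel hK.fIsKernel⟩
        obtain ⟨e⟩ := key _ (by omega) h₁
        obtain ⟨et⟩ := nonempty_TnIso k N q (r + (c + 1) + 1)
        let E := twistEquiv k N ((q * (r + (c + 1) + 1) : ℕ) : ℤ) (-((q * (r + (c + 1) + 1) : ℕ) : ℤ)) (by ring)
        exact ⟨E.inverse.mapIso (e ≪≫ et.app S.X₁) ≪≫ (E.unitIso.app S.X₁).symm⟩
      have hvan := hm₀ a (r + (c + 1) + 1) (by
        have h1 : m₀ ≤ q * m₀ := Nat.le_mul_of_pos_left m₀ hq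
        have h2 : q * (m₀ + (a + (c + 1))) ≤ q * (r + (c + 1) + 1) := Nat.mul_le_mul_left q (by omega)
        rw [Nat.mul_add, Nat.mul_add] at h2
        omega) S.X₁ ⟨eK⟩ η
      rw [← hMap_wle k N q G a hs h₂, ← hη]
      show hMap (k := k) ((Tn Lq a).map (wle G 0 h₂)) 1
        (hMap (k := k) ((Tn Lq a).map (kernel.ι (wle G 0 h₁))) 1 η) = 0
      rw [← hMap_comp, ← Functor.map_comp, ← hh, Functor.map_comp, hMap_comp]
      exact (congrArg _ hvan).trans (map_zero _)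
    have hall : ∀ m, s (n₀ + m * (c + 1)) = 0 := fun m => by
      induction m with
      | zero => rw [Nat.zero_mul, Nat.add_zero]; exact hz
      | succ m ih =>
        obtain ⟨r, hr⟩ : ∃ r, n₀ + m * (c + 1) = r + (c + 1) := ⟨n₀ + m * (c + 1) - (c + 1), by omega⟩
        rw [hr] at ih
        rw [show n₀ + (m + 1) * (c + 1) = r + 2 * (c + 1) by rw [Nat.succ_mul]; omega]
        exact step r (by omega) ih
    refine funext fun n => ?_
    rw [← hMap_wle k N q G a hs (show n ≤ n₀ + n * (c + 1) by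
      have := Nat.le_mul_of_pos_right n (show 0 < c + 1 by omega); omega), hall, map_zero]
    rfl

include hcoh hG in
/-- **Sections of high twists of the bottom lift compatibly to all levels.** -/
theorem exists_lifts (hk : Killed k N q ℓ G) (hq : 1 ≤ q) :
    ∃ a₀ : ℕ, ∀ a, a₀ ≤ a → ∀ s : Coh.HH ℙ ((Tn Lq a).obj (G.F 0)) 0,
      ∃ fam : ∀ m, Coh.HH ℙ ((Tn Lq a).obj (G.F m)) 0, fam 0 = s ∧
        ∀ m, hMap (k := k) ((Tn Lq a).map (G.tr m)) 0 (fam (m + 1)) = fam m := by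
  have hLinv := PicPnLib.twist_inv N k (q : ℤ)
  haveI : IsProper ((CohB1.ProjSpace N k) ↘ Spec (CommRingCat.of k)) := ProjDegLib.toSpec_isProper k N
  haveI : ∀ (M : (CohB1.ProjSpace N k).Modules) (p : ℕ) (hM : Coh.IsCoh M), Module.Finite k (Coh.HH ℙ M p) :=
    fun M p hM => CurvLib.finite_HH hM p
  haveI : ∀ a i, FiniteDimensional k (Coh.HH ℙ ((Tn Lq a).obj (W G 0 i)) 1) := fun a i =>
    CurvLib.finite_HH (isCoh_Tn Lq hLinv a (isCoh_W k N G hcoh i)) 1
  haveI : ∀ a i, FiniteDimensional k (Coh.HH ℙ ((Tn Lq a).obj (G.F (0 + i + 1))) 0) := fun a i =>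
    CurvLib.finite_HH (isCoh_Tn Lq hLinv a (hcoh _)) 0
  obtain ⟨a₁, ha₁⟩ := exists_Tn_vanishing k N q hq (W G 0 0) (isCoh_W k N G hcoh 0)
  obtain ⟨a₂, ha₁₂, ha₂⟩ := eventually_injective_compat (U := fun a i => Coh.HH ℙ ((Tn Lq a).obj (W G 0 i)) 1)
    (tH k N q G) (σH k N q ℓ G hG) (fun a i x => by
      show hMap (k := k) ((Tn Lq a).map (sig Lq ℓ G 0 hG i 1)) 1 (hMap (k := k) ((Tn Lq a).map (wle G 0 (Nat.le_succ i))) 1 x) =
        hMap (k := k) ((Tn Lq a).map ((Tn Lq 1).map (wle G 0 (Nat.le_succ (i + 1))))) 1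
          (hMap (k := k) ((Tn Lq a).map (sig Lq ℓ G 0 hG (i + 1) 1)) 1 x)
      rw [← hMap_comp, ← hMap_comp, ← Functor.map_comp, ← Functor.map_comp, sig_succ_natural Lq ℓ G hG i])
    a₁ (fun a ha i z => by
      haveI := ha₁ (a + 1) (by omega)
      have hSa := shortExact_Tn Lq hLinv a (sig_shortExact Lq ℓ G 0 hG i 0)
      have hmem : z ∈ LinearMap.ker (hMap (k := k)
          ((ShortComplex.mk _ _ (sig_zero Lq ℓ G 0 hG i 0)).map (Tn Lq a)).g 1) :=
        (show Subsingleton (Coh.HH ℙ ((Tn Lq (a + 1)).obj (W G 0 0)) 1) from inferInstance).elim _ _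
      rw [← CurvLib.exact₂ hSa] at hmem
      exact hmem)
    (exists_determined k N q ℓ G hG hcoh hk hq)
  refine ⟨a₂, fun a ha s => ?_⟩
  let S : ∀ n, ShortComplex (CohB1.ProjSpace N k).Modules := fun n => ShortComplex.mk (wι G 0 n) _ (wι_cond G 0 n)
  have hS : ∀ n, (S n).ShortExact := fun n =>
    { exact := ShortComplex.exact_of_f_is_kernel _ (kernelIsKernel _)
      mono_f := inferInstanceAs (Mono (wι G 0 n))
      epi_g := epi_tle Lq ℓ G hG _ }
  have hSa := fun n => shortExact_Tn Lq hLinv a (hS n)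
  let δ : ∀ n, Coh.HH ℙ ((Tn Lq a).obj (W G 0 n)) 1 := fun n => hDel (k := k) (hSa n) 0 s
  have hδc : δ ∈ Cmp k N q G a := fun n => by
    let φ : S (n + 1) ⟶ S n := ShortComplex.homMk (wle G 0 (Nat.le_succ n))
      (G.tle (show 0 + n + 1 ≤ 0 + (n + 1) + 1 by omega)) (𝟙 _) (wle_ι G 0 _)
      ((G.tle_trans _ _).trans (Category.comp_id _).symm)
    have h1 := EssZeroLib.hDel_natural (k := k) (hSa (n + 1)) (hSa n) ((Tn Lq a).mapShortComplex.map φ) 0 s
    show hMap (k := k) ((Tn Lq a).map (wle G 0 (Nat.le_succ n))) 1 (δ (n + 1)) = δ n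
    refine h1.symm.trans (congrArg (hDel (k := k) (hSa n) 0) ?_)
    show hMap (k := k) ((Tn Lq a).map (𝟙 (G.F 0))) 0 s = s
    rw [CategoryTheory.Functor.map_id, PnDualLib.hMap_id]
  have hδ0 := ha₂ a ha δ hδc fun n => by
    obtain ⟨x, hx⟩ := exists_sig_factor Lq hLinv ℓ G hG n
    show hMap (k := k) ((Tn Lq a).map (sig Lq ℓ G 0 hG n 1)) 1 (δ n) = 0
    rw [← hx, Functor.map_comp, hMap_comp]
    have : δ n ∈ LinearMap.ker (hMap (k := k) ((S n).map (Tn Lq a)).f 1) := by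
      rw [← CurvLib.exact₁]; exact LinearMap.mem_range_self _ s
    exact (congrArg _ (LinearMap.mem_ker.1 this)).trans (map_zero _)
  obtain ⟨g, hg, hgt⟩ := exists_compatible_preimage (V := fun i => Coh.HH ℙ ((Tn Lq a).obj (G.F (0 + i + 1))) 0)
    (W := fun _ => Coh.HH ℙ ((Tn Lq a).obj (G.F 0)) 0)
    (fun i => hMap (k := k) ((Tn Lq a).map (G.tle (show 0 + i + 1 ≤ 0 + (i + 1) + 1 by omega))) 0)
    (fun _ => LinearMap.id) (fun i => hMap (k := k) ((S i).map (Tn Lq a)).g 0)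
    (fun i x => by
      show hMap (k := k) ((Tn Lq a).map _) 0 (hMap (k := k) ((Tn Lq a).map _) 0 x) = hMap (k := k) ((Tn Lq a).map _) 0 x
      rw [← hMap_comp, ← Functor.map_comp, G.tle_trans])
    (fun _ => s) (fun _ => rfl) (fun i => by
      have : s ∈ LinearMap.ker (hDel (k := k) (hSa i) 0) := congrFun hδ0 i
      rw [← CurvLib.exact₃] at this
      exact this)
  refine ⟨fun m => hMap (k := k) ((Tn Lq a).map (G.tle (show m ≤ 0 + m + 1 by omega))) 0 (g m), hg 0, fun m => ?_⟩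
  show hMap (k := k) _ 0 (hMap (k := k) _ 0 (g (m + 1))) = hMap (k := k) _ 0 (g m)
  rw [show g m = hMap (k := k) ((Tn Lq a).map (G.tle (show 0 + m + 1 ≤ 0 + (m + 1) + 1 by omega))) 0 (g (m + 1)) from
    (hgt m).symm]
  rw [← hMap_comp, ← hMap_comp, ← Functor.map_comp, ← Functor.map_comp]
  refine congrArg (fun z => hMap (k := k) ((Tn Lq a).map z) 0 (g (m + 1))) ?_
  rw [← G.tle_succ, G.tle_trans, G.tle_trans]

end FormalAlgzAmpleLib
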