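import Mathlib.RingTheory.Artinian.Module
import Mathlib.LinearAlgebra.Dimension.Finite
import Mathlib.LinearAlgebra.FiniteDimensional.Lemmas

/-!
# Inverse sequences of finite-dimensional vector spaces
-/

set_option autoImplicit false
universe u

noncomputable section

namespace FormalAlgzAmpleLib

variable {k : Type*} [Field k] {V : ℕ → Type*} [∀ n, AddCommGroup (V n)] [∀ n, Module k (V n)]
  (tr : ∀ n, V (n + 1) →ₗ[k] V n)

/-- The composite transition `V (n + j) → V n`. -/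
def trPow (n : ℕ) : ∀ j, V (n + j) →ₗ[k] V n
  | 0 => LinearMap.id
  | j + 1 => (trPow n j).comp (tr (n + j))

theorem trPow_shift (n : ℕ) : ∀ (j : ℕ) (h : n + 1 + j = n + (j + 1)) (x : V (n + 1 + j)),
    tr n (trPow tr (n + 1) j x) = trPow tr n (j + 1) (h ▸ x)
  | 0, h, x => by
    show tr n x = tr (n + 0) (h ▸ x)
    rfl
  | j + 1, h, x => by
    show tr n (trPow tr (n + 1) j (tr (n + 1 + j) x)) = trPow tr n (j + 1) (tr (n + (j + 1)) (h ▸ x))
    rw [trPow_shift n j (by omega) _]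
    congr 1
    have key : ∀ (a b : ℕ) (hab : a = b) (z : V (a + 1)), (hab ▸ tr a z : V b) = tr b ((congrArg (· + 1) hab) ▸ z) := by
      rintro a _ rfl z
      rfl
    exact key (n + 1 + j) (n + (j + 1)) (by omega) x

/-- **Compatible elements of nonempty cosets exist.** `K n` is a subspace and `v n` represents a coset, mapped
into each other by the transitions. -/
theorem exists_compatible_coset [∀ n, FiniteDimensional k (V n)] (K : ∀ n, Submodule k (V n)) (v : ∀ n, V n)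
    (hK : ∀ n, ∀ x ∈ K (n + 1), tr n x ∈ K n) (hv : ∀ n, tr n (v (n + 1)) - v n ∈ K n) :
    ∃ s : ∀ n, V n, (∀ n, s n - v n ∈ K n) ∧ ∀ n, tr n (s (n + 1)) = s n := by
  let P : ∀ n j, Set (V n) := fun n j => {y | ∃ x : V (n + j), x - v (n + j) ∈ K (n + j) ∧ trPow tr n j x = y}
  let L : ∀ n j, Submodule k (V n) := fun n j => (K (n + j)).map (trPow tr n j)
  have hmem : ∀ n j (x : V (n + j + 1)), x - v (n + j + 1) ∈ K (n + j + 1) → tr (n + j) x - v (n + j) ∈ K (n + j) :=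
    fun n j x hx => by
    have h1 := hK (n + j) _ hx
    rw [map_sub] at h1
    simpa using add_mem h1 (hv (n + j))
  have hanti : ∀ n, Antitone (L n) := fun n => antitone_nat_of_succ_le fun j => by
    rintro _ ⟨x, hx, rfl⟩
    exact ⟨_, hK (n + j) x hx, rfl⟩
  have hPanti : ∀ n, Antitone (P n) := fun n => antitone_nat_of_succ_le fun j => by
    rintro _ ⟨x, hx, rfl⟩
    exact ⟨_, hmem n j x hx, rfl⟩
  have hstab : ∀ n, ∃ j₀, ∀ j, j₀ ≤ j → P n j₀ ⊆ P n j := fun n => by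
    obtain ⟨j₀, hj₀⟩ := IsArtinian.monotone_stabilizes
      (⟨fun j => OrderDual.toDual (L n j), fun a b h => hanti n h⟩ : ℕ →o (Submodule k (V n))ᵒᵈ)
    refine ⟨j₀, fun j hj y hy => ?_⟩
    obtain ⟨x, hx, rfl⟩ := hy
    have hvj : trPow tr n j (v (n + j)) ∈ P n j := ⟨_, by simp, rfl⟩
    obtain ⟨x', hx', hxe⟩ := hPanti n hj hvj
    have h1 : trPow tr n j₀ (x - x') ∈ L n j₀ := ⟨x - x', by
      have := sub_mem hx hx'
      rwa [sub_sub_sub_cancel_right] at this, rfl⟩
    have h2 : L n j₀ = L n j := hj₀ j hj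
    rw [h2] at h1
    obtain ⟨z, hz, hze⟩ := h1
    refine ⟨z + v (n + j), ?_, ?_⟩
    · rw [add_sub_cancel_right]
      exact hz
    · rw [map_add, hze, map_sub, hxe, sub_add_cancel]
  let A : ∀ n, Set (V n) := fun n => {y | ∀ j, y ∈ P n j}
  have hA : ∀ n, (A n).Nonempty := fun n => by
    obtain ⟨j₀, hj₀⟩ := hstab n
    refine ⟨trPow tr n j₀ (v (n + j₀)), fun j => ?_⟩
    rcases le_total j₀ j with h | h
    · exact hj₀ j h ⟨_, by simp, rfl⟩
    · exact hPanti n h ⟨_, by simp, rfl⟩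
  have hlift : ∀ n, ∀ y ∈ A n, ∃ z ∈ A (n + 1), tr n z = y := fun n y hy => by
    obtain ⟨j₁, hj₁⟩ := hstab (n + 1)
    obtain ⟨x, hx, hxe⟩ := hy (j₁ + 1)
    have h : n + 1 + j₁ = n + (j₁ + 1) := by omega
    have key : ∀ (a b : ℕ) (hab : a = b) (z : V b), z - v b ∈ K b → ((hab.symm ▸ z : V a) - v a ∈ K a) ∧
        (hab ▸ (hab.symm ▸ z : V a) : V b) = z := by
      rintro a _ rfl z hz
      exact ⟨hz, rfl⟩
    obtain ⟨hk, he⟩ := key _ _ h x hx
    refine ⟨trPow tr (n + 1) j₁ (h.symm ▸ x), fun j => ?_, ?_⟩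
    · rcases le_total j₁ j with hj | hj
      · exact hj₁ j hj ⟨_, hk, rfl⟩
      · exact hPanti (n + 1) hj ⟨_, hk, rfl⟩
    · rw [trPow_shift tr n j₁ h, he, hxe]
  choose f hf hfe using hlift
  let s : ∀ n, {y : V n // y ∈ A n} := fun n => Nat.rec (motive := fun n => {y : V n // y ∈ A n})
    ⟨(hA 0).some, (hA 0).some_mem⟩ (fun n y => ⟨f n y.1 y.2, hf n y.1 y.2⟩) n
  refine ⟨fun n => (s n).1, fun n => ?_, fun n => hfe n _ _⟩
  obtain ⟨x, hx, hxe⟩ := (s n).2 0
  show (s n).1 - v n ∈ K n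
  rw [← hxe]
  exact hx

/-- **Compatible elements of the images have compatible preimages.** -/
theorem exists_compatible_preimage [∀ n, FiniteDimensional k (V n)] {W : ℕ → Type*} [∀ n, AddCommGroup (W n)]
    [∀ n, Module k (W n)] (trW : ∀ n, W (n + 1) →ₗ[k] W n) (f : ∀ n, V n →ₗ[k] W n)
    (hf : ∀ n x, f n (tr n x) = trW n (f (n + 1) x)) (w : ∀ n, W n) (hw : ∀ n, trW n (w (n + 1)) = w n)
    (h : ∀ n, ∃ x, f n x = w n) : ∃ s : ∀ n, V n, (∀ n, f n (s n) = w n) ∧ ∀ n, tr n (s (n + 1)) = s n := by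
  choose v hv using h
  obtain ⟨s, hs, hst⟩ := exists_compatible_coset tr (fun n => LinearMap.ker (f n)) v
    (fun n x hx => by rw [LinearMap.mem_ker] at hx ⊢; rw [hf, hx, map_zero])
    (fun n => by rw [LinearMap.mem_ker, map_sub, hf, hv, hv, hw, sub_self])
  refine ⟨s, fun n => ?_, hst⟩
  have h1 := hs n
  rw [LinearMap.mem_ker, map_sub, sub_eq_zero, hv] at h1
  exact h1

/-- The compatible families. -/
def compat : Submodule k (∀ n, V n) where
  carrier := {s | ∀ n, tr n (s (n + 1)) = s n}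
  add_mem' {a b} ha hb n := by simp only [Pi.add_apply, map_add, ha n, hb n]
  zero_mem' n := by simp
  smul_mem' c s hs n := by simp only [Pi.smul_apply, map_smul, hs n]

/-- **A sequence of surjections between spaces of compatible families becomes injective.** `V a n` is the
`n`-th level at stage `a`; `σ` goes to the next stage; every stage is determined by one of its levels. -/
theorem eventually_injective_compat {U : ℕ → ℕ → Type*} [∀ a n, AddCommGroup (U a n)] [∀ a n, Module k (U a n)]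
    [∀ a n, FiniteDimensional k (U a n)] (t : ∀ a n, U a (n + 1) →ₗ[k] U a n)
    (σ : ∀ a n, U a n →ₗ[k] U (a + 1) (n + 1))
    (hσ : ∀ a n x, σ a n (t a n x) = t (a + 1) (n + 1) (σ a (n + 1) x))
    (a₁ : ℕ) (hsurj : ∀ a, a₁ ≤ a → ∀ n, Function.Surjective (σ a n))
    (hdet : ∀ a, ∃ n₀, ∀ s, s ∈ compat (t a) → s n₀ = 0 → s = 0) :
    ∃ a₂, a₁ ≤ a₂ ∧ ∀ a, a₂ ≤ a → ∀ s, s ∈ compat (t a) → (∀ n, σ a n (s n) = 0) → s = 0 := by
  let Φ : ∀ a, compat (t a) →ₗ[k] compat (t (a + 1)) := fun a =>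
    { toFun := fun s => ⟨fun n => t (a + 1) n (σ a n (s.1 n)), fun n => by
        show t (a + 1) n (t (a + 1) (n + 1) (σ a (n + 1) (s.1 (n + 1)))) = t (a + 1) n (σ a n (s.1 n))
        rw [← hσ a n, s.2 n]⟩
      map_add' := fun x y => Subtype.ext (funext fun n => by simp)
      map_smul' := fun c x => Subtype.ext (funext fun n => by simp) }
  haveI : ∀ a, FiniteDimensional k (compat (t a)) := fun a => by
    obtain ⟨n₀, hn⟩ := hdet a
    refine FiniteDimensional.of_injective ((LinearMap.proj n₀).comp (compat (t a)).subtype) ?_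
    rw [injective_iff_map_eq_zero]
    exact fun x hx => Subtype.ext (hn x.1 x.2 hx)
  have hΦ : ∀ a, a₁ ≤ a → Function.Surjective (Φ a) := fun a ha w => by
    obtain ⟨s, hs, hst⟩ := exists_compatible_preimage (t a) (fun n => t (a + 1) (n + 1)) (σ a) (hσ a)
      (fun n => w.1 (n + 1)) (fun n => w.2 (n + 1)) (fun n => hsurj a ha n _)
    refine ⟨⟨s, hst⟩, Subtype.ext (funext fun n => ?_)⟩
    show t (a + 1) n (σ a n (s n)) = _
    rw [hs, w.2]
  let d : ℕ → ℕ := fun i => Module.finrank k (compat (t (a₁ + i)))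
  have hd : Antitone d := antitone_nat_of_succ_le fun i =>
    LinearMap.finrank_le_finrank_of_surjective (f := Φ (a₁ + i)) (hΦ _ (by omega))
  obtain ⟨i₀, hi₀⟩ := WellFoundedGT.monotone_chain_condition
    (⟨fun i => OrderDual.toDual (d i), fun a b h => hd h⟩ : ℕ →o ℕᵒᵈ)
  refine ⟨a₁ + i₀, by omega, fun a ha s hs hz => ?_⟩
  obtain ⟨i, rfl⟩ : ∃ i, a = a₁ + i := ⟨a - a₁, by omega⟩
  have h1 : d i₀ = d i := hi₀ i (by omega)
  have h2 : d i₀ = d (i + 1) := hi₀ (i + 1) (by omega)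
  have hinj := (LinearMap.injective_iff_surjective_of_finrank_eq_finrank (f := Φ (a₁ + i))
    (h1.symm.trans h2)).2 (hΦ _ (by omega))
  exact congrArg Subtype.val (hinj (a₁ := ⟨s, hs⟩) (a₂ := 0) (Subtype.ext (funext fun n => by
    show t (a₁ + i + 1) n (σ (a₁ + i) n (s n)) = _
    rw [hz, map_zero, map_zero]
    rfl)))

end FormalAlgzAmpleLib
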