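import Groth.Agent.FormalAlgzAmpleLib.Data
import Groth.Agent.FormalAlgzAmpleLib.LevelStalk
import Groth.Agent.FormalAlgzAmpleLib.Lift
import Groth.Agent.EssZeroLib.Dim

/-!
# The system on projective space and its models
-/

set_option autoImplicit false
set_option linter.unusedSectionVars false
set_option linter.style.haveILetI false
set_option backward.isDefEq.respectTransparency false
set_option backward.isDefEq.respectTransparency.types false
set_option maxHeartbeats 1600000
universe u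

open CategoryTheory CategoryTheory.Limits AlgebraicGeometry TopologicalSpace Opposite FSch Abelian
open CohCmpLib (stk)
open PnDualLib (sm)
open EssZeroLib (one bijective_one)

noncomputable section

namespace FormalAlgzAmpleLib

/-- The transition on stalks. -/
abbrev trS {X : Scheme.{u}} (G : Sys X) (z : X) (n : ℕ) :
    (DerSch.stalkFunctor X z).obj (G.F (n + 1)) →ₗ[X.presheaf.stalk z] (DerSch.stalkFunctor X z).obj (G.F n) :=
  ((DerSch.stalkFunctor X z).map (G.tr n)).hom

/-- The stalks of the system are free over the quotients by the powers of the ideal. -/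
def Loc {X : Scheme.{u}} (I : X.IdealSheafData) (G : Sys X) : Prop :=
  ∀ (z : X) (V : X.affineOpens) (t : Γ(X, V.1)) (hz : z ∈ V.1), I.ideal V = Ideal.span {t} →
    FreeSys (X.presheaf.germ V.1 z hz t) (L := fun n => ((DerSch.stalkFunctor X z).obj (G.F n))) (trS G z)

/-- The levels of a system. -/
abbrev levS {X : Scheme.{u}} (𝓘 : X.IdealSheafData) (𝔐 : ModSys (completionAlong X 𝓘)) : Sys X :=
  ⟨ProjLefLib.lev 𝓘 𝔐, FCohLib.gTr 𝓘 𝔐⟩

variable {k : Type u} [Field k] {X : Scheme.{u}} [X.Over (Spec (CommRingCat.of k))]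
  [IsProper (X ↘ Spec (CommRingCat.of k))] {L : X.Modules} {s : Coh.structureModule X ⟶ L} (d : Data k s)

local notation "ℙd" => CohB1.ProjSpace d.N k
local notation "Lq" => Twist.twistProjSpace d.N k (d.q : ℤ)

/-- The level of the system on projective space. -/
def Data.idx (n : ℕ) : ℕ := d.D * (n + 1) - 1

theorem Data.idx_add_one (n : ℕ) : d.idx n + 1 = d.D * (n + 1) :=
  Nat.sub_add_cancel (Nat.one_le_iff_ne_zero.2 (Nat.mul_ne_zero (Nat.one_le_iff_ne_zero.1 d.hD) n.succ_ne_zero))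

theorem Data.idx_le (n : ℕ) : d.idx n ≤ d.idx (n + 1) :=
  Nat.sub_le_sub_right (Nat.mul_le_mul_left _ (Nat.le_succ _)) 1

/-- The structure sheaf of the embedded scheme. -/
abbrev Data.pO : (ℙd).Modules := (Coh.push d.i).obj (Coh.structureModule X)

variable (G : Sys X)

/-- The system on projective space. -/
def Data.sys : Sys ℙd where
  F n := (Coh.push d.i).obj (G.F (d.idx n))
  tr n := (Coh.push d.i).map (G.tle (d.idx_le n))

variable {G} (hG : Loc (PicF2.zeroScheme L s) G)

/-- A stalk of the direct image of functions, as functions. -/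
def Data.θ [IsClosedImmersion d.i] (z : X) (v : stk d.pO (d.i z)) : X.presheaf.stalk z :=
  (Equiv.ofBijective _ (bijective_one z)).symm (pe d.i (Coh.structureModule X) z v)

theorem Data.θ_spec [IsClosedImmersion d.i] (z : X) (v : stk d.pO (d.i z)) :
    d.θ z v • one X z = pe d.i (Coh.structureModule X) z v :=
  (Equiv.ofBijective _ (bijective_one z)).apply_symm_apply _

theorem Data.θ_bijective [IsClosedImmersion d.i] (z : X) : Function.Bijective (d.θ z) :=
  (Equiv.ofBijective _ (bijective_one z)).symm.bijective.comp (pe d.i (Coh.structureModule X) z).bijective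

theorem Data.θ_add [IsClosedImmersion d.i] (z : X) (v w : stk d.pO (d.i z)) : d.θ z (v + w) = d.θ z v + d.θ z w :=
  (bijective_one z).1 (by
    show d.θ z (v + w) • one X z = (d.θ z v + d.θ z w) • one X z
    rw [add_smul, d.θ_spec, d.θ_spec, d.θ_spec, map_add])

theorem Data.θ_smul [IsClosedImmersion d.i] (z : X) (c : (ℙd).presheaf.stalk (d.i z)) (v : stk d.pO (d.i z)) :
    d.θ z (c • v) = d.i.stalkMap z c * d.θ z v :=
  (bijective_one z).1 (by
    show d.θ z (c • v) • one X z = (d.i.stalkMap z c * d.θ z v) • one X z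
    rw [mul_smul, d.θ_spec, d.θ_spec]
    exact pe_smul d.i _ z c v)

theorem trStalk_tle {z : X} {r : ℕ} {π : ∀ n, (Fin r → X.presheaf.stalk z) →ₗ[X.presheaf.stalk z]
      (DerSch.stalkFunctor X z).obj (G.F n)}
    (hc : ∀ n m, trS G z n (π (n + 1) m) = π n m) {a b : ℕ} (h : a ≤ b) (m : Fin r → X.presheaf.stalk z) :
    ((DerSch.stalkFunctor X z).map (G.tle h)).hom (π b m) = π a m := by
  induction h with
  | refl =>
    rw [show G.tle (le_refl a) = 𝟙 _ from G.fn.map_id (op a), CategoryTheory.Functor.map_id]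
    rfl
  | @step b hb ih =>
    rw [← G.tle_trans hb (Nat.le_succ b), Functor.map_comp, ModuleCat.hom_comp, LinearMap.comp_apply,
      G.tle_succ]
    exact (congrArg _ (hc b m)).trans ih

include hG in
/-- **The models.** -/
theorem Data.exists_model (y : ℙd) : ∃ (M : Model Lq d.ℓ (d.sys G) 0 y) (r : ℕ),
    Nonempty ((M.D : Type u) ≃ₗ[(ℙd).presheaf.stalk y] (Fin r → stk d.pO y)) := by
  haveI := d.closed
  haveI := CurvLib.isNoetherian k (X := X)
  obtain ⟨W, g, hy, hg⟩ := TwistLib.exists_genOn (PicPnLib.twist_inv d.N k (d.q : ℤ)) y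
  by_cases hr : y ∈ Set.range d.i
  swap
  · haveI : ∀ n, Subsingleton ((DerSch.stalkFunctor ℙd y).obj ((d.sys G).F n)) := fun n => subsingleton_push d.i _ hr
    refine ⟨{ V := W, hy := hy, g := g, hg := hg, D := ModuleCat.of _ (Fin 0 → stk d.pO y), π := fun _ => 0
              comm := fun n => by simp
              surj := fun n x => ⟨0, Subsingleton.elim _ _⟩
              ker := fun n c => ⟨fun _ => ⟨0, funext fun j => j.elim0⟩, fun _ => rfl⟩
              stable := fun j c _ => funext fun j => j.elim0 }, 0, ⟨LinearEquiv.refl _ _⟩⟩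
  obtain ⟨z, rfl⟩ := hr
  obtain ⟨V, t, hz, hV, hst, hassoc⟩ := d.val z
  obtain ⟨r, π, hπc, hπs, hπk⟩ := exists_lifts_free (hG z V t hz hV)
  obtain ⟨u, hu⟩ := hassoc W hy g hg
  set T := X.presheaf.germ V.1 z hz t
  set lv := d.i.stalkMap z (locVal Lq d.ℓ (d.i z) hy hg)
  let Θ : (Fin r → stk d.pO (d.i z)) → (Fin r → X.presheaf.stalk z) := fun c j => d.θ z (c j)
  have hΘ : Function.Bijective Θ := 
    ⟨fun a b h => funext fun j => (d.θ_bijective z).1 (congrFun h j), fun v =>
      ⟨fun j => ((d.θ_bijective z).2 (v j)).choose, funext fun j => ((d.θ_bijective z).2 (v j)).choose_spec⟩⟩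
  have hΘs : ∀ c v, Θ (c • v) = d.i.stalkMap z c • Θ v := fun c v => funext fun j => d.θ_smul z c (v j)
  have hΘ0 : Θ 0 = 0 := funext fun j => (bijective_one z).1 (by
    show d.θ z 0 • one X z = (0 : X.presheaf.stalk z) • one X z
    rw [d.θ_spec, map_zero, zero_smul])
  let pn : ∀ n, stk ((d.sys G).F n) (d.i z) ≃+ (DerSch.stalkFunctor X z).obj (G.F (d.idx n)) :=
    fun n => pe d.i _ z
  let πP : ∀ n, ModuleCat.of _ (Fin r → stk d.pO (d.i z)) ⟶ (DerSch.stalkFunctor ℙd (d.i z)).obj ((d.sys G).F n) :=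
    fun n => ModuleCat.ofHom (Y := (DerSch.stalkFunctor ℙd (d.i z)).obj ((d.sys G).F n))
      { toFun := fun c => (pn n).symm (π (d.idx n) (Θ c))
        map_add' := fun a b => by
          rw [← map_add, ← map_add]
          exact congrArg _ (congrArg _ (funext fun j => d.θ_add z (a j) (b j)))
        map_smul' := fun c v => (pn n).injective (by
          rw [AddEquiv.apply_symm_apply, hΘs, map_smul, RingHom.id_apply]
          exact (((pe_smul d.i _ z c _).trans (congrArg _ ((pn n).apply_symm_apply _)))).symm) }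
  have hpow : ∀ n, lv ^ n * (u : X.presheaf.stalk z) ^ n = T ^ (d.D * n) := fun n => by
    rw [← mul_pow, hu, pow_mul]
  refine ⟨{ V := W, hy := hy, g := g, hg := hg, D := ModuleCat.of _ (Fin r → stk d.pO (d.i z)), π := πP
            comm := fun n => ModuleCat.hom_ext (LinearMap.ext fun c => (pn n).injective ?_)
            surj := fun n x => ?_
            ker := fun n c => ?_
            stable := fun j c hc => ?_ }, r, ⟨LinearEquiv.refl _ _⟩⟩
  · refine ((pe_natural d.i (G.tle (d.idx_le n)) z _).trans ?_).trans ((pn n).apply_symm_apply _).symm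
    refine (congrArg _ ((pn (n + 1)).apply_symm_apply _)).trans ?_
    exact trStalk_tle hπc (d.idx_le n) _
  · obtain ⟨v, hv⟩ := hπs (d.idx n) (pn n x)
    obtain ⟨c, rfl⟩ := hΘ.2 v
    exact ⟨c, (congrArg (pn n).symm hv).trans ((pn n).symm_apply_apply x)⟩
  · show (pn n).symm (π (d.idx n) (Θ c)) = 0 ↔ _
    rw [AddEquiv.map_eq_zero_iff, hπk, d.idx_add_one]
    constructor
    · rintro ⟨v, hv⟩
      obtain ⟨c', hc'⟩ := hΘ.2 ((u : X.presheaf.stalk z) ^ (n + 1) • v)
      refine ⟨c', hΘ.1 ?_⟩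
      rw [hΘs, hc', map_pow, smul_smul, hpow, hv]
    · rintro ⟨c', rfl⟩
      refine ⟨((u⁻¹ : (X.presheaf.stalk z)ˣ) : X.presheaf.stalk z) ^ (n + 1) • Θ c', ?_⟩
      rw [hΘs, map_pow, smul_smul, ← hpow]
      congr 1
      rw [mul_assoc, ← mul_pow, Units.mul_inv, one_pow, mul_one]
  · refine hΘ.1 ?_
    have h1 : lv ^ (0 + 1 + j) • Θ c = 0 := by rw [← map_pow, ← hΘs, hc, hΘ0]
    rw [hΘs, map_pow, hΘ0]
    funext l
    have h2 : T ^ (d.D * (0 + 1 + j)) * Θ c l = 0 := by
      rw [← hpow, mul_right_comm]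
      exact mul_eq_zero_of_left (congrFun h1 l) _
    have h3 := hst _ _ h2
    rw [← mul_one d.D, ← hpow, mul_right_comm] at h3
    rw [zero_add]
    exact (u.isUnit.pow 1).mul_left_eq_zero.1 h3

/-- The image of the multiplication by the section. -/
abbrev Data.Q : (ℙd).Modules := Abelian.image ((mulBy Lq d.ℓ).app d.pO)

theorem Data.exists_Q_equiv (y : ℙd) {W : (ℙd).Opens} (hy : y ∈ W) {g : Γ(Lq, W)} (hg : AmpleLib.GenOn Lq g) :
    Nonempty ((stk d.Q y : Type u) ≃ₗ[(ℙd).presheaf.stalk y]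
      LinearMap.range (LinearMap.lsmul ((ℙd).presheaf.stalk y) (stk d.pO y) (locVal Lq d.ℓ y hy hg))) := by
  let f := (mulBy Lq d.ℓ).app d.pO
  let e := twEquiv Lq y hy hg d.pO
  let φ : stk d.Q y →ₗ[(ℙd).presheaf.stalk y] stk d.pO y := e.toLinearMap.comp (sm (Abelian.image.ι f) y)
  have hinj : Function.Injective φ := e.injective.comp
    ((ModuleCat.mono_iff_injective ((DerSch.stalkFunctor ℙd y).map (Abelian.image.ι f))).1 inferInstance)
  have hfac : ∀ v, φ (sm (Abelian.factorThruImage f) y v) = locVal Lq d.ℓ y hy hg • v := fun v => by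
    refine Eq.trans ?_ (twEquiv_mulBy Lq d.ℓ y hy hg d.pO v)
    exact congrArg e ((EssZeroLib.sm_comp' _ _ y v).symm.trans (congrArg (fun z => sm z y v) (Abelian.image.fac f)))
  refine ⟨(LinearEquiv.ofInjective φ hinj).trans (LinearEquiv.ofEq _ _ (le_antisymm ?_ ?_))⟩
  · rintro _ ⟨q, rfl⟩
    obtain ⟨v, rfl⟩ :=
      (ModuleCat.epi_iff_surjective ((DerSch.stalkFunctor ℙd y).map (Abelian.factorThruImage f))).1 inferInstance q
    exact ⟨v, (hfac v).symm⟩
  · rintro _ ⟨v, rfl⟩
    exact ⟨_, hfac v⟩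

theorem Data.isUnit_of_locVal {z : X} {W : (ℙd).Opens} (hy : d.i z ∈ W) {g : Γ(Lq, W)} (hg : AmpleLib.GenOn Lq g)
    (h : IsUnit (locVal Lq d.ℓ (d.i z) hy hg)) : z ∉ ((PicF2.zeroScheme L s).support : Set X) := by
  obtain ⟨V, t, hz, hV, -, hassoc⟩ := d.val z
  have h1 := ((hassoc W hy g hg).isUnit (h.map (d.i.stalkMap z).hom))
  have hb : z ∈ X.basicOpen t := (X.mem_basicOpen t z hz).2
    ((isUnit_pow_iff (Nat.one_le_iff_ne_zero.1 d.hD)).1 h1)
  intro hmem
  have h2 := (Set.ext_iff.mp (Scheme.IdealSheafData.coe_support_inter (PicF2.zeroScheme L s) V) z).1 ⟨hmem, hz⟩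
  rw [hV] at h2
  simp only [Set.mem_inter_iff, Scheme.zeroLocus_span, Scheme.mem_zeroLocus_iff, Set.mem_singleton_iff, forall_eq,
    SetLike.mem_coe] at h2
  exact h2.1 hb

variable (hd : ∀ x : X, x ∉ ((PicF2.zeroScheme L s).support : Set X) → (2 : WithBot ℕ∞) <
  (LocCoh.depth (X.presheaf.stalk x) (X.presheaf.stalk x) : WithBot ℕ∞) + topologicalKrullDim ↥(closure ({x} : Set X)))

include hd in
theorem Data.pdlt_pO (z : X) (hz : z ∉ ((PicF2.zeroScheme L s).support : Set X)) [IsClosedImmersion d.i] :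
    CommAlgDim.PDLT ((ℙd).presheaf.stalk (d.i z)) (stk d.pO (d.i z)) (d.N - 3 + 1) ∧
      (d.N ≤ 2 → Subsingleton (stk d.pO (d.i z))) := by
  haveI := CurvLib.isNoetherian k (X := X)
  obtain ⟨e⟩ := AVAmpleLib.nonempty_stalk_structureModule X z
  refine EssZeroLib.pdlt_push d.i _ (DevissLib.isCoh_structureModule X) z 2 (d.N - 3) (by omega)
    (lt_of_lt_of_eq (hd z hz) (congrArg (fun t : ℕ∞ => (t : WithBot ℕ∞) + topologicalKrullDim ↥(closure ({z} : Set X)))
      (CommAlgDim.depth_congr e)))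

include hd hG in
/-- **The obstructions are finite.** -/
theorem Data.killed : Killed k d.N d.q d.ℓ (d.sys G) := by
  haveI := d.closed
  haveI := CurvLib.isNoetherian k (X := X)
  rcases Nat.lt_or_ge 2 d.N with hN | hN
  swap
  · refine Or.inl fun i => ?_
    rw [IsZero.iff_id_eq_zero]
    refine FComplLib.eq_zero_of_stalks _ fun y => ModuleCat.hom_ext (LinearMap.ext fun x => ?_)
    obtain ⟨M, r, ⟨e⟩⟩ := d.exists_model hG y
    have hkill : ∀ v : stk d.pO y, locVal Lq d.ℓ y M.hy M.hg • v = 0 := fun v => by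
      by_cases hr : y ∈ Set.range d.i
      swap
      · exact @Subsingleton.elim _ (subsingleton_push d.i (Coh.structureModule X) hr) _ _
      obtain ⟨z, rfl⟩ := hr
      obtain ⟨V, t, hz, hV, hst, hassoc⟩ := d.val z
      obtain ⟨u, hu⟩ := hassoc M.V M.hy M.g M.hg
      have hempty : X.basicOpen t = ⊥ := by
        rw [← le_bot_iff]
        intro w hw
        have hwV := X.basicOpen_le t hw
        by_contra _
        have hns : w ∉ ((PicF2.zeroScheme L s).support : Set X) := fun hmem => by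
          have h2 := (Set.ext_iff.mp (Scheme.IdealSheafData.coe_support_inter (PicF2.zeroScheme L s) V) w).1 ⟨hmem, hwV⟩
          rw [hV] at h2
          simp only [Set.mem_inter_iff, Scheme.zeroLocus_span, Scheme.mem_zeroLocus_iff, Set.mem_singleton_iff,
            forall_eq, SetLike.mem_coe] at h2
          exact h2.1 hw
        haveI := (d.pdlt_pO hd w hns).2 hN
        haveI : Subsingleton (X.presheaf.stalk w) := (Equiv.ofBijective _ (d.θ_bijective w)).symm.subsingleton
        exact not_subsingleton (X.presheaf.stalk w) inferInstance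
      obtain ⟨m, hm⟩ := (Scheme.isNilpotent_iff_basicOpen_eq_bot_of_isCompact V.2.isCompact t).2 hempty
      have h0 : X.presheaf.germ V.1 z hz t ^ m * 1 = 0 := by rw [mul_one, ← map_pow, hm, map_zero]
      have h1 := hst m 1 h0
      rw [mul_one, ← hu] at h1
      refine (d.θ_bijective z).1 ?_
      rw [d.θ_smul, (u.isUnit.mul_left_eq_zero).1 h1, zero_mul, ← zero_smul ((ℙd).presheaf.stalk (d.i z)) v,
        d.θ_smul, map_zero, zero_mul]
    obtain ⟨c, rfl⟩ := M.toW_surjective i x
    rw [CategoryTheory.Functor.map_id]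
    show M.toW i c = _
    have hc : locVal Lq d.ℓ y M.hy M.hg ^ (0 + 1) • c = locVal Lq d.ℓ y M.hy M.hg ^ (0 + 1) • (0 : M.D) :=
      e.injective (funext fun j => by
        rw [map_smul, map_smul, map_zero, zero_add, pow_one, smul_zero]
        exact hkill _)
    rw [M.toW_congr i hc]
    exact (M.toW_eq_zero_iff i 0).2 ⟨0, by rw [smul_zero, smul_zero]⟩
  have hLinv := PicPnLib.twist_inv d.N k (d.q : ℤ)
  have hQ : Coh.IsCoh d.Q := by
    haveI := PnDualLib.isNoetherian_projSpace k d.N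
    have h1 : Coh.IsCoh d.pO := PnDualLib.isCoh_push' d.i (DevissLib.isCoh_structureModule X)
    have h2 := HilbPolyLib.isCoh_tensor hLinv h1
    exact QCohLib.isCoh_kernel _ h2 (QCohLib.isCoh_cokernel _ h1.1 h2).1
  have hvan : ∀ i, d.N - 2 ≤ i → ∀ (y : ℙd) (W : (ℙd).Opens) (hy : y ∈ W) (g : Γ(Lq, W))
      (hg : AmpleLib.GenOn Lq g), IsUnit (locVal Lq d.ℓ y hy hg) → Subsingleton (PnDualLib.ExtAt k d.N d.Q y i) := by
    intro i hi y W hy g hg hu
    obtain ⟨e⟩ := d.exists_Q_equiv y hy hg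
    have hp : CommAlgDim.PDLT ((ℙd).presheaf.stalk y) (stk d.Q y) (d.N - 3 + 1) := by
      refine CommAlgDim.PDLT.of_equiv (e.trans (LinearEquiv.ofTop _ ?_)).symm ?_
      · exact LinearMap.range_eq_top.2 hu.smul_bijective.2
      by_cases hr : y ∈ Set.range d.i
      · obtain ⟨z, rfl⟩ := hr
        exact (d.pdlt_pO hd z (d.isUnit_of_locVal hy hg hu)).1
      · haveI := subsingleton_push d.i (Coh.structureModule X) hr
        haveI : Module.Projective ((ℙd).presheaf.stalk y) (stk d.pO y) :=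
          haveI : Subsingleton (stk d.pO y) := subsingleton_push d.i (Coh.structureModule X) hr
          Module.Projective.of_free
        exact (CommAlgDim.pdlt_one_iff.2 inferInstance).mono (by omega)
    haveI := hp
    exact HasProjectiveDimensionLT.subsingleton (stk d.Q y) (d.N - 3 + 1) i (by omega) _
  obtain ⟨j, hj⟩ : ∃ j, d.N = j + 3 := ⟨d.N - 3, by omega⟩
  obtain ⟨c₁, hc₁⟩ := exists_killsAt k d.N Lq hLinv d.ℓ d.Q hQ j (hvan (j + 1) (by omega))
  obtain ⟨c₂, hc₂⟩ := exists_killsAt k d.N Lq hLinv d.ℓ d.Q hQ (j + 1) (hvan (j + 1 + 1) (by omega))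
  refine Or.inr ⟨j + 1, by omega, c₁ + c₂, fun y => ?_⟩
  obtain ⟨M, r, ⟨e⟩⟩ := d.exists_model hG y
  refine ⟨M, fun i hi hi' => ?_⟩
  set lv := locVal Lq d.ℓ y M.hy M.hg
  have hQk : ∀ v : PnDualLib.ExtAt k d.N d.Q y i, lv ^ (c₁ + c₂ + 1) • v = 0 := by
    obtain rfl | rfl : i = j + 1 ∨ i = j + 1 + 1 := by omega
    · intro v
      rw [show c₁ + c₂ + 1 = (c₂ + 1) + c₁ by ring, pow_add, mul_smul, hc₁ y M.V M.hy M.g M.hg v, smul_zero]
    · intro v
      rw [show c₁ + c₂ + 1 = (c₁ + 1) + c₂ by ring, pow_add, mul_smul, hc₂ y M.V M.hy M.g M.hg v, smul_zero]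
  obtain ⟨eQ⟩ := d.exists_Q_equiv y M.hy M.hg
  have hp1 : lv ^ (0 + 1) = lv := by rw [zero_add, pow_one]
  let f : Fin r → (M.core ⟶ stk d.Q y) := fun l => ModuleCat.ofHom (X := M.core)
    (eQ.symm.toLinearMap.comp ((((LinearMap.proj l).comp e.toLinearMap).comp (Submodule.subtype _)).codRestrict _
      fun x => by
        obtain ⟨c, hc⟩ := x.2
        refine ⟨e c l, ?_⟩
        show lv • e c l = e x.1 l
        rw [← hc]
        show _ = e (lv ^ (0 + 1) • c) l
        rw [hp1, map_smul]; rfl))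
  let g : Fin r → (stk d.Q y ⟶ M.core) := fun l => ModuleCat.ofHom (Y := M.core)
    (((e.symm.toLinearMap.comp (LinearMap.single _ _ l)).comp
      ((Submodule.subtype _).comp eQ.toLinearMap)).codRestrict _ fun x => by
        obtain ⟨v, hv⟩ := (eQ x).2
        refine ⟨e.symm (Pi.single l v), ?_⟩
        show lv ^ (0 + 1) • e.symm (Pi.single l v) = e.symm (Pi.single l (eQ x).1)
        rw [hp1, ← map_smul, ← hv, ← Pi.single_smul]
        rfl)
  refine smul_ext_eq_zero_of_sum (lv ^ (c₁ + c₂ + 1)) f g ?_ hQk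
  refine ModuleCat.hom_ext (LinearMap.ext fun x => Subtype.ext (e.injective ?_))
  rw [ModuleCat.hom_sum]
  simp only [LinearMap.sum_apply, AddSubmonoidClass.coe_finsetSum, map_sum]
  refine Eq.trans (Finset.sum_congr rfl fun l _ => ?_) (Finset.univ_sum_single (e x.1))
  show e (e.symm (Pi.single l (eQ (eQ.symm _)).1)) = _
  rw [LinearEquiv.apply_symm_apply, LinearEquiv.apply_symm_apply]
  rfl

include hG in
theorem Data.good : (d.sys G).Good Lq d.ℓ 0 := fun y => ⟨(d.exists_model hG y).choose⟩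

theorem Data.isCoh_sys (hc : ∀ n, Coh.IsCoh (G.F n)) (n : ℕ) : Coh.IsCoh ((d.sys G).F n) := by
  haveI := d.closed
  haveI := CurvLib.isNoetherian k (X := X)
  exact PnDualLib.isCoh_push' d.i (hc _)

theorem loc_levS [IsLocallyNoetherian X] (I : X.IdealSheafData) {𝔐 : ModSys (completionAlong X I)}
    (h𝔐 : LefX.LevelwiseFinLocFree 𝔐) : Loc I (levS I 𝔐) :=
  fun _ _ _ hz hV => freeSys_stalk hV h𝔐 hz

end FormalAlgzAmpleLib
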