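import Groth.Agent.PnDualLib.Local
import Mathlib.Algebra.Homology.DerivedCategory.Ext.Linear

/-!
# Scalars killing the stalks of Ext, by syzygies
-/

set_option autoImplicit false
set_option linter.unusedSectionVars false
set_option linter.style.haveILetI false
set_option maxHeartbeats 800000
set_option backward.isDefEq.respectTransparency false
set_option backward.isDefEq.respectTransparency.types false
universe w t v u

open CategoryTheory CategoryTheory.Limits AlgebraicGeometry TopologicalSpace Opposite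

noncomputable section

namespace FormalAlgzAmpleLib

-- abstract part
section Abs

open CategoryTheory.Abelian

variable {R : Type t} [CommRing R] {C : Type u} [Category.{v} C] [Abelian C] [Linear R C] [HasExt.{w} C]
  {S : ShortComplex C} (hS : S.ShortExact) [Projective S.X₂] (Y : C) (r : R)

include hS in
theorem smul_ext_one_iff :
    (∀ e : Ext S.X₃ Y 1, r • e = 0) ↔ ∀ a : S.X₁ ⟶ Y, ∃ b : S.X₂ ⟶ Y, S.f ≫ b = r • a := by
  constructor
  · intro h a
    have h0 : hS.extClass.comp (Ext.mk₀ (r • a)) (rfl : 1 + 0 = 1) = 0 := by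
      rw [Ext.mk₀_smul, Ext.comp_smul, h]
    obtain ⟨x, hx⟩ := Ext.contravariant_sequence_exact₁ hS Y _ (rfl : 1 + 0 = 1) h0
    obtain ⟨b, rfl⟩ := Ext.homEquiv₀.symm.surjective x
    refine ⟨b, Ext.homEquiv₀.symm.injective ?_⟩
    exact ((Ext.mk₀_comp_mk₀ S.f b).symm.trans hx)
  · intro h e
    obtain ⟨y, rfl⟩ := Ext.contravariant_sequence_exact₃ hS Y e (Ext.eq_zero_of_projective _) (rfl : 1 + 0 = 1)
    obtain ⟨a, rfl⟩ := Ext.homEquiv₀.symm.surjective y
    obtain ⟨b, hb⟩ := h a
    show r • hS.extClass.comp (Ext.mk₀ a) _ = 0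
    rw [← Ext.comp_smul, ← Ext.mk₀_smul, ← hb, ← Ext.mk₀_comp_mk₀, ← Ext.comp_assoc_of_second_deg_zero,
      hS.extClass_comp, Ext.zero_comp]

include hS in
theorem smul_ext_shift_iff (i : ℕ) :
    (∀ e : Ext S.X₃ Y (i + 2), r • e = 0) ↔ ∀ e : Ext S.X₁ Y (i + 1), r • e = 0 := by
  constructor
  · intro h e
    have h0 : hS.extClass.comp (r • e) (by omega : 1 + (i + 1) = i + 2) = 0 := by rw [Ext.comp_smul, h]
    obtain ⟨x, hx⟩ := Ext.contravariant_sequence_exact₁ hS Y _ (by omega : 1 + (i + 1) = i + 2) h0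
    rw [← hx, Ext.eq_zero_of_projective x, Ext.comp_zero]
  · intro h e
    obtain ⟨y, rfl⟩ := Ext.contravariant_sequence_exact₃ hS Y e (Ext.eq_zero_of_projective _)
      (by omega : 1 + (i + 1) = i + 2)
    rw [← Ext.comp_smul, h, Ext.comp_zero]

end Abs

open PnDualLib

variable (k : Type u) [Field k] (n : ℕ)
variable (F : (CohB1.ProjSpace n k).Modules) (hF : Coh.IsCoh F)

local notation "ℙ" => CohB1.ProjSpace n k
local notation "ω'" => Twist.twistProjSpace n k (-((n : ℤ) + 1))

open CohCmpLib (stk)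

/-- The multiple by `r` of every linear form on the stalk of a syzygy extends. -/
def KillsAt (j : ℕ) (y : CohB1.ProjSpace n k) (r : (CohB1.ProjSpace n k).presheaf.stalk y) : Prop :=
  ∀ a : stk (syz k n F hF (j + 1)).1 y →ₗ[(CohB1.ProjSpace n k).presheaf.stalk y] stk ω' y,
    ∃ b : stk (mid k n F hF j) y →ₗ[(CohB1.ProjSpace n k).presheaf.stalk y] stk ω' y,
      b.comp (sm (incl k n F hF j) y) = r • a

theorem smul_extAt_iff (y : CohB1.ProjSpace n k) (r : (CohB1.ProjSpace n k).presheaf.stalk y) : ∀ q j : ℕ,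
    (∀ e : ExtAt k n (syz k n F hF j).1 y (q + 1), r • e = 0) ↔ KillsAt k n F hF (j + q) y r
  | 0, j => by
    haveI : Projective ((syzSeq k n F hF j).map (DerSch.stalkFunctor ℙ y)).X₂ := projective_mid k n F hF j y
    obtain ⟨e⟩ := nonempty_twist_stalk k n (-((n : ℤ) + 1)) y
    refine (smul_ext_one_iff (stalk_seq k n F hF j y) _ r).trans ⟨fun h a => ?_, fun h a => ?_⟩
    · obtain ⟨b, hb⟩ := h (ModuleCat.ofHom a ≫ e.hom)
      refine ⟨(b ≫ e.inv).hom, ?_⟩
      have h2 : ((syzSeq k n F hF j).map (DerSch.stalkFunctor ℙ y)).f ≫ (b ≫ e.inv) = r • ModuleCat.ofHom a := by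
        rw [← Category.assoc, hb, Linear.smul_comp, Category.assoc, e.hom_inv_id, Category.comp_id]
      exact congrArg ModuleCat.Hom.hom h2
    · obtain ⟨b, hb⟩ := h (a ≫ e.inv).hom
      refine ⟨ModuleCat.ofHom b ≫ e.hom, ?_⟩
      have h2 : ((syzSeq k n F hF j).map (DerSch.stalkFunctor ℙ y)).f ≫ ModuleCat.ofHom b = r • (a ≫ e.inv) :=
        ModuleCat.hom_ext hb
      rw [← Category.assoc, h2, Linear.smul_comp, Category.assoc, e.inv_hom_id, Category.comp_id]
  | q + 1, j => by
    haveI : Projective ((syzSeq k n F hF j).map (DerSch.stalkFunctor ℙ y)).X₂ := projective_mid k n F hF j y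
    refine (smul_ext_shift_iff (stalk_seq k n F hF j y) _ r q).trans ?_
    rw [show j + (q + 1) = j + 1 + q by omega]
    exact smul_extAt_iff y r q (j + 1)

include hF in
/-- The case of the module itself. -/
theorem smul_extAt_iff_killsAt (y : CohB1.ProjSpace n k) (r : (CohB1.ProjSpace n k).presheaf.stalk y) (q : ℕ) :
    (∀ e : ExtAt k n F y (q + 1), r • e = 0) ↔ KillsAt k n F hF q y r := by
  refine (smul_extAt_iff k n F hF y r q 0).trans ?_
  rw [Nat.zero_add]

end FormalAlgzAmpleLib
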