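import Groth.Agent.FormalAlgzAmpleLib.Models
import Groth.Agent.PnCohLib.Global
import Groth.Agent.VBResLib.GGen

/-!
# Presentations of formal systems by sums of an invertible module
-/

set_option autoImplicit false
set_option linter.unusedSectionVars false
set_option linter.style.haveILetI false
set_option backward.isDefEq.respectTransparency false
set_option backward.isDefEq.respectTransparency.types false
set_option maxHeartbeats 1600000
universe u

open CategoryTheory CategoryTheory.Limits AlgebraicGeometry TopologicalSpace Opposite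

noncomputable section

namespace FormalAlgzAmpleLib

open PnDualLib (tw' twistEquiv)

section Proj

variable (k : Type u) [Field k] (N q : ℕ)

local notation "ℙ" => CohB1.ProjSpace N k
local notation "Lq" => Twist.twistProjSpace N k (q : ℤ)

/-- A good system receives compatible maps from a negative twist, generating the bottom. -/
theorem exists_present_proj (hq : 1 ≤ q) (ℓ : Coh.structureModule ℙ ⟶ Lq) (G : Sys ℙ) (hG : G.Good Lq ℓ 0)
    (hcoh : ∀ n, Coh.IsCoh (G.F n)) (hk : Killed k N q ℓ G) :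
    ∃ (t : ℤ) (m : ℕ) (g : ∀ n, (∐ fun _ : Fin m => Twist.twistProjSpace N k t) ⟶ G.F n),
      (∀ n, g (n + 1) ≫ G.tr n = g n) ∧ Epi (g 0) := by
  obtain ⟨m₀, hm₀⟩ := PnCohLib.exists_regular k (G.F 0) (hcoh 0)
  obtain ⟨a₀, ha₀⟩ := exists_lifts k N q ℓ G hG hcoh hk hq
  obtain ⟨a, ha, ham⟩ : ∃ a, a₀ ≤ a ∧ m₀ ≤ ((q * a : ℕ) : ℤ) := ⟨a₀ + m₀.toNat, Nat.le_add_right _ _, by
    have h1 := m₀.self_le_toNat
    have h2 : a₀ + m₀.toNat ≤ q * (a₀ + m₀.toNat) := Nat.le_mul_of_pos_left _ hq
    omega⟩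
  obtain ⟨eT⟩ := nonempty_TnIso k N q a
  let u : ℤ := ((q * a : ℕ) : ℤ)
  let F0 := (tw' k N u).obj (G.F 0)
  have hF0 : Coh.IsCoh F0 := HilbPolyLib.isCoh_tensor (PicPnLib.twist_inv N k u) (hcoh 0)
  have hgg : Curv2.IsGloballyGenerated F0 := MiscFlat6.isGloballyGenerated_of_iso (HilbPolyLib.swapIso _ _)
    (PnCohLib.isGloballyGenerated_of_regular k (G.F 0) (hcoh 0).1 u (hm₀ u ham))
  haveI : IsProper (CohB1.ProjSpace.toSpec N k) := ProjDegLib.toSpec_isProper k N
  haveI : CompactSpace ℙ := (PnDualLib.isNoetherian_projSpace k N).toCompactSpace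
  obtain ⟨m, ψ, hψ⟩ := VBResLib.exists_epi_free_of_gg hF0 hgg
  let sec : ∀ F : (CohB1.ProjSpace N k).Modules,
      Coh.HH ℙ ((Tn Lq a).obj F) 0 → (Coh.structureModule ℙ ⟶ (tw' k N u).obj F) := fun F x =>
    (KFlatLib.unitSecEquiv _).symm (CohCmpLib.h0E _ x) ≫ eT.hom.app F
  have hsec : ∀ {F F' : (CohB1.ProjSpace N k).Modules} (φ : F ⟶ F') (x : Coh.HH ℙ ((Tn Lq a).obj F) 0),
      sec F x ≫ (tw' k N u).map φ = sec F' (CurvLib.hMap (k := k) ((Tn Lq a).map φ) 0 x) := fun {F F'} φ x => by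
    show (_ ≫ eT.hom.app F) ≫ _ = _ ≫ eT.hom.app F'
    rw [Category.assoc, ← eT.hom.naturality φ, ← Category.assoc]
    refine congrArg (· ≫ eT.hom.app F') ((KFlatLib.unitSecEquiv _).injective ?_)
    rw [KFlatLib.unitSecEquiv_comp, Equiv.apply_symm_apply, Equiv.apply_symm_apply]
    exact (CohCmpLib.h0E_hm ((Tn Lq a).map φ) x).symm
  have hsur : ∀ φ : Coh.structureModule ℙ ⟶ (tw' k N u).obj (G.F 0), ∃ x, sec (G.F 0) x = φ := fun φ =>
    ⟨(CohCmpLib.h0E _).symm (KFlatLib.unitSecEquiv _ (φ ≫ eT.inv.app _)), by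
      show (KFlatLib.unitSecEquiv _).symm (CohCmpLib.h0E _ ((CohCmpLib.h0E _).symm _)) ≫ _ = φ
      rw [AddEquiv.apply_symm_apply, Equiv.symm_apply_apply, Category.assoc, Iso.inv_hom_id_app, Category.comp_id]⟩
  choose s hs using fun i : Fin m => hsur (Sigma.ι (fun _ : Fin m => Coh.structureModule ℙ) i ≫ ψ)
  choose fam hfam₀ hfam using fun i => ha₀ a ha (s i)
  let E := twistEquiv k N (-u) u (by ring)
  let adj := E.toAdjunction
  let O := Coh.structureModule ℙ
  let e : (tw' k N (-u)).obj O ≅ Twist.twistProjSpace N k (-u) := PicPnLib.unitRight (Twist.twistProjSpace N k (-u))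
  let g : ∀ n, (∐ fun _ : Fin m => Twist.twistProjSpace N k (-u)) ⟶ G.F n := fun n =>
    Sigma.desc fun i => e.inv ≫ (adj.homEquiv O (G.F n)).symm (sec (G.F n) (fam i n))
  refine ⟨-u, m, g, fun n => Sigma.hom_ext _ _ fun i => ?_, Preadditive.epi_of_cancel_zero _ fun {Z} w hw => ?_⟩
  · show Sigma.ι _ i ≫ Sigma.desc _ ≫ _ = Sigma.ι _ i ≫ Sigma.desc _
    rw [Sigma.ι_desc_assoc, Sigma.ι_desc, Category.assoc, ← Adjunction.homEquiv_naturality_right_symm]
    refine congrArg (fun z => e.inv ≫ (adj.homEquiv O (G.F n)).symm z) ?_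
    exact (hsec (G.tr n) (fam i (n + 1))).trans (congrArg _ (hfam i n))
  · have h0 : ∀ i, sec (G.F 0) (fam i 0) ≫ (tw' k N u).map w = 0 := fun i => by
      have h1 := congrArg (Sigma.ι (fun _ : Fin m => Twist.twistProjSpace N k (-u)) i ≫ ·) hw
      simp only [g, Sigma.ι_desc_assoc, comp_zero, Category.assoc] at h1
      have h2 := (cancel_epi e.inv).1 (h1.trans comp_zero.symm)
      rw [← Adjunction.homEquiv_naturality_right_symm] at h2
      refine (adj.homEquiv O Z).symm.injective (h2.trans ?_)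
      rw [Adjunction.homEquiv_counit]
      haveI : E.functor.Additive := inferInstanceAs (tw' k N (-u)).Additive
      rw [Functor.map_zero, zero_comp]
    have h3 : ψ ≫ (tw' k N u).map w = 0 := Sigma.hom_ext _ _ fun i => by
      rw [comp_zero, ← Category.assoc, ← hs i, ← hfam₀ i, h0 i]
    exact E.inverse.map_injective (((cancel_epi ψ).1 (h3.trans comp_zero.symm)).trans (Functor.map_zero _ _ _).symm)

end Proj

variable {k : Type u} [Field k] {X : Scheme.{u}} [X.Over (Spec (CommRingCat.of k))]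
  [IsProper (X ↘ Spec (CommRingCat.of k))] {L : X.Modules} {s : Coh.structureModule X ⟶ L}

/-- **A system receives compatible maps from copies of an invertible module, generating the bottom.** -/
theorem Data.exists_present (d : Data k s) (hd : ∀ x : X, x ∉ ((PicF2.zeroScheme L s).support : Set X) →
      (2 : WithBot ℕ∞) < (LocCoh.depth (X.presheaf.stalk x) (X.presheaf.stalk x) : WithBot ℕ∞) +
        topologicalKrullDim ↥(closure ({x} : Set X)))
    {G : Sys X} (hG : Loc (PicF2.zeroScheme L s) G) (hc : ∀ n, Coh.IsCoh (G.F n)) :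
    ∃ (C A : X.Modules) (_ : PicF.IsInvertible C) (_ : CohB1.tensorMod C A ≅ Coh.structureModule X) (m : ℕ)
      (g : ∀ n, (∐ fun _ : Fin m => A) ⟶ G.F n), (∀ n, g (n + 1) ≫ G.tr n = g n) ∧ Epi (g 0) := by
  haveI := d.closed
  obtain ⟨t, m, g, hg, hg0⟩ := exists_present_proj k d.N d.q d.hq d.ℓ (d.sys G) (d.good hG) (d.isCoh_sys hc)
    (d.killed hG hd)
  haveI := hg0
  let T := Twist.twistProjSpace d.N k t
  let A := (Scheme.Modules.pullback d.i).obj T
  obtain ⟨hC, hiso⟩ := ChernOpLib.exists_du_inv (AmpleDevLib.isInvertible_pb d.i (PicPnLib.twist_inv d.N k t) :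
    PicF.IsInvertible A)
  let eA : CohB1.tensorMod (ChernOpLib.du A) A ≅ Coh.structureModule X :=
    HilbPolyLib.swapIso _ _ ≪≫ @asIso _ _ _ _ (CohCmpLib.evMod A (Coh.structureModule X)) hiso
  let adj := Scheme.Modules.pullbackPushforwardAdjunction d.i
  let h : ∀ n, (∐ fun _ : Fin m => A) ⟶ G.F (d.idx n) := fun n =>
    Sigma.desc fun i => (adj.homEquiv _ _).symm (Sigma.ι (fun _ : Fin m => T) i ≫ g n)
  have hh : ∀ n, h (n + 1) ≫ G.tle (d.idx_le n) = h n := fun n => Sigma.hom_ext _ _ fun i => by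
    show Sigma.ι _ i ≫ Sigma.desc _ ≫ _ = Sigma.ι _ i ≫ Sigma.desc _
    rw [Sigma.ι_desc_assoc, Sigma.ι_desc, ← Adjunction.homEquiv_naturality_right_symm, Category.assoc]
    exact congrArg (fun z => (adj.homEquiv _ _).symm (Sigma.ι (fun _ : Fin m => T) i ≫ z)) (hg n)
  have hle : ∀ n, n ≤ d.idx n := fun n => by
    have := Nat.le_mul_of_pos_left (n + 1) d.hD
    have := d.idx_add_one n
    omega
  refine ⟨_, A, hC, eA, m, fun n => h n ≫ G.tle (hle n), fun n => ?_, ?_⟩
  · show (h (n + 1) ≫ G.tle (hle (n + 1))) ≫ G.tr n = h n ≫ G.tle (hle n)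
    rw [← hh n, Category.assoc, Category.assoc, ← G.tle_succ, G.tle_trans, G.tle_trans]
  · haveI : Epi (h 0) := Preadditive.epi_of_cancel_zero _ fun w hw => by
      have h1 : g 0 ≫ (Scheme.Modules.pushforward d.i).map w = 0 := Sigma.hom_ext _ _ fun i => by
        refine (adj.homEquiv _ _).symm.injective ?_
        rw [comp_zero, ← Category.assoc, Adjunction.homEquiv_naturality_right_symm]
        have h2 := congrArg (Sigma.ι (fun _ : Fin m => A) i ≫ ·) hw
        simp only [h, Sigma.ι_desc_assoc, comp_zero] at h2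
        refine h2.trans ?_
        simp [Adjunction.homEquiv_counit]
      have h2 : (Scheme.Modules.pushforward d.i).map w = 0 := (cancel_epi (g 0)).1 (h1.trans comp_zero.symm)
      haveI := CycKSuppLib.isIso_counit d.i (G.F (d.idx 0))
      rw [← cancel_epi (adj.counit.app (G.F (d.idx 0))), comp_zero]
      refine (adj.counit.naturality w).symm.trans ?_
      show (Scheme.Modules.pullback d.i).map ((Scheme.Modules.pushforward d.i).map w) ≫ _ = 0
      rw [h2, Functor.map_zero, zero_comp]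
    haveI : Epi (G.tle (hle 0)) := PerfCompLib.epi_of_stalks _ fun z => (ModuleCat.epi_iff_surjective _).2 fun x => by
      obtain ⟨V, t', hz, hV, -, -⟩ := d.val z
      obtain ⟨r, π, hπc, hπs, -⟩ := exists_lifts_free (hG z V t' hz hV)
      obtain ⟨v, rfl⟩ := hπs 0 x
      exact ⟨π _ v, trStalk_tle hπc (hle 0) v⟩
    exact epi_comp _ _

end FormalAlgzAmpleLib
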