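import Mathlib.RingTheory.LocalRing.Module
import Mathlib.RingTheory.Nakayama
import Mathlib.LinearAlgebra.Pi

/-!
# Inverse systems of free modules over the quotients by the powers of an element
-/

set_option autoImplicit false
universe u v

noncomputable section

namespace FormalAlgzAmpleLib

variable {R : Type u} [CommRing R] (t : R)

/-- A free module over `R / t ^ (n + 1)`. -/
def LevelFree (n : ℕ) (L : Type v) [AddCommGroup L] [Module R L] : Prop :=
  ∃ (r : ℕ) (φ : (Fin r → R) →ₗ[R] L), Function.Surjective φ ∧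
    ∀ c, φ c = 0 ↔ ∃ c', c = t ^ (n + 1) • c'

variable {L : ℕ → Type v} [∀ n, AddCommGroup (L n)] [∀ n, Module R (L n)] (tr : ∀ n, L (n + 1) →ₗ[R] L n)

/-- The conditions on an inverse system. -/
structure FreeSys : Prop where
  free : ∀ n, LevelFree t n (L n)
  surj : ∀ n, Function.Surjective (tr n)
  ker : ∀ n x, tr n x = 0 → ∃ x', x = t ^ (n + 1) • x'

variable {t tr}

theorem LevelFree.smul_eq_zero {n : ℕ} {M : Type v} [AddCommGroup M] [Module R M] (h : LevelFree t n M) (x : M) :
    t ^ (n + 1) • x = 0 := by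
  obtain ⟨r, φ, hφ, hk⟩ := h
  obtain ⟨c, rfl⟩ := hφ x
  rw [← map_smul, hk]
  exact ⟨c, rfl⟩

/-- A compatible family extending generators of the bottom generates every level. -/
theorem surjective_of_bottom (h : FreeSys t tr) {M : Type*} [AddCommGroup M] [Module R M] (π : ∀ n, M →ₗ[R] L n)
    (hc : ∀ n m, tr n (π (n + 1) m) = π n m) (h0 : Function.Surjective (π 0)) : ∀ n, Function.Surjective (π n)
  | 0 => h0
  | n + 1 => by
    have ih := surjective_of_bottom h π hc h0 n
    have key : ∀ (j : ℕ) (x : L (n + 1)), ∃ m x', x = π (n + 1) m + t ^ j • x' := by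
      intro j
      induction j with
      | zero => exact fun x => ⟨0, x, by simp⟩
      | succ j ihj =>
        intro x
        obtain ⟨m, x', rfl⟩ := ihj x
        obtain ⟨m', hm'⟩ := ih (tr n x')
        obtain ⟨x'', hx''⟩ := h.ker n (x' - π (n + 1) m') (by rw [map_sub, hc, hm', sub_self])
        refine ⟨m + t ^ j • m', t ^ n • x'', ?_⟩
        rw [sub_eq_iff_eq_add] at hx''
        rw [hx'', map_add, map_smul, smul_add, smul_smul, smul_smul, ← pow_add, ← pow_add,
          show j + (n + 1) = j + 1 + n by omega]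
        abel
    intro x
    obtain ⟨m, x', hx⟩ := key (n + 2) x
    exact ⟨m, by rw [hx, (h.free (n + 1)).smul_eq_zero, add_zero]⟩

/-- **A free module reduces to all levels.** -/
theorem exists_lifts_free (h : FreeSys t tr) : ∃ (r : ℕ) (π : ∀ n, (Fin r → R) →ₗ[R] L n),
    (∀ n m, tr n (π (n + 1) m) = π n m) ∧ (∀ n, Function.Surjective (π n)) ∧
      ∀ n c, π n c = 0 ↔ ∃ c', c = t ^ (n + 1) • c' := by
  obtain ⟨r, φ, hφ, hk⟩ := h.free 0
  let b₀ : Fin r → L 0 := fun i => φ (Pi.basisFun R (Fin r) i)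
  choose lft hlft using h.surj
  let b : ∀ n, Fin r → L n := fun n => Nat.rec (motive := fun n => Fin r → L n) b₀ (fun n bn i => lft n (bn i)) n
  let π : ∀ n, (Fin r → R) →ₗ[R] L n := fun n => (Pi.basisFun R (Fin r)).constr R (b n)
  have hπ0 : π 0 = φ := (Pi.basisFun R (Fin r)).ext fun i => by
    show (Pi.basisFun R (Fin r)).constr R (b 0) _ = _
    rw [Module.Basis.constr_basis]
    rfl
  have hc : ∀ n m, tr n (π (n + 1) m) = π n m := fun n m => by
    have : (tr n).comp (π (n + 1)) = π n := (Pi.basisFun R (Fin r)).ext fun i => by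
      show tr n ((Pi.basisFun R (Fin r)).constr R (b (n + 1)) _) = (Pi.basisFun R (Fin r)).constr R (b n) _
      rw [Module.Basis.constr_basis, Module.Basis.constr_basis]
      exact hlft n (b n i)
    exact LinearMap.congr_fun this m
  have hs := surjective_of_bottom h π hc (hπ0 ▸ hφ)
  refine ⟨r, π, hc, hs, fun n c => ⟨?_, fun ⟨c', e⟩ => by rw [e, map_smul, (h.free n).smul_eq_zero]⟩⟩
  induction n generalizing c with
  | zero => exact fun hz => (hk c).1 (by rw [← hπ0]; exact hz)
  | succ n ih =>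
    intro hz
    obtain ⟨c', rfl⟩ := ih c (by rw [← hc, hz, map_zero])
    obtain ⟨s, ψ, hψ, hψk⟩ := h.free (n + 1)
    obtain ⟨d, hd⟩ := hψ (π (n + 1) c')
    obtain ⟨d'', hd''⟩ := (hψk (t ^ (n + 1) • d)).1 (by rw [map_smul, hd, ← map_smul, hz])
    choose β hβ using fun i => hs (n + 1) (ψ (Pi.basisFun R (Fin s) i))
    let B : (Fin s → R) →ₗ[R] (Fin r → R) := (Pi.basisFun R (Fin s)).constr R β
    have hB : ∀ e, π (n + 1) (B e) = ψ e := fun e => by
      have : (π (n + 1)).comp B = ψ := (Pi.basisFun R (Fin s)).ext fun i => by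
        show π (n + 1) ((Pi.basisFun R (Fin s)).constr R β _) = _
        rw [Module.Basis.constr_basis, hβ]
      exact LinearMap.congr_fun this e
    let a := d - t • d''
    have ha : t ^ (n + 1) • a = 0 := by
      show t ^ (n + 1) • (d - t • d'') = 0
      rw [smul_sub, smul_smul, ← pow_succ, ← hd'', sub_self]
    have hz' : π (n + 1) (c' - (B a + t • B d'')) = 0 := by
      rw [map_sub, map_add, map_smul, hB, hB, ← map_smul, ← map_add]
      show π (n + 1) c' - ψ (d - t • d'' + t • d'') = 0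
      rw [sub_add_cancel, hd, sub_self]
    obtain ⟨e, he⟩ := ih _ (by rw [← hc, hz', map_zero])
    refine ⟨B d'' + t ^ n • e, ?_⟩
    have hBa : t ^ (n + 1) • B a = 0 := by rw [← map_smul, ha, map_zero]
    rw [sub_eq_iff_eq_add] at he
    rw [he, smul_add, smul_add, smul_add, hBa, zero_add, smul_smul, smul_smul, smul_smul, ← pow_succ, ← pow_add,
      ← pow_add, show n + 1 + (n + 1) = n + 1 + 1 + n by omega]
    abel

section Local

variable [IsLocalRing R] (ht : t ∈ IsLocalRing.maximalIdeal R)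
  {L' : ℕ → Type v} [∀ n, AddCommGroup (L' n)] [∀ n, Module R (L' n)] {tr' : ∀ n, L' (n + 1) →ₗ[R] L' n}

include ht in
/-- **The kernel of a surjection of such systems is such a system.** -/
theorem freeSys_kernel (h : FreeSys t tr) (h' : FreeSys t tr') (g : ∀ n, L n →ₗ[R] L' n)
    (hg : ∀ n x, tr' n (g (n + 1) x) = g n (tr n x)) (hgs : ∀ n, Function.Surjective (g n))
    {K : ℕ → Type v} [∀ n, AddCommGroup (K n)] [∀ n, Module R (K n)] (trK : ∀ n, K (n + 1) →ₗ[R] K n)
    (ι : ∀ n, K n →ₗ[R] L n) (hι : ∀ n, Function.Injective (ι n))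
    (hιg : ∀ n x, g n x = 0 ↔ x ∈ LinearMap.range (ι n)) (hιtr : ∀ n x, tr n (ι (n + 1) x) = ι n (trK n x)) :
    FreeSys t trK := by
  obtain ⟨p, π, hπc, hπs, hπk⟩ := exists_lifts_free h
  obtain ⟨r, π', hπc', hπs', hπk'⟩ := exists_lifts_free h'
  have key : ∀ n, ∃ G : (Fin p → R) →ₗ[R] (Fin r → R), Function.Surjective G ∧ ∀ a, π' n (G a) = g n (π n a) := by
    intro n
    choose β hβ using fun i => hπs' n (g n (π n (Pi.basisFun R (Fin p) i)))
    let G : (Fin p → R) →ₗ[R] (Fin r → R) := (Pi.basisFun R (Fin p)).constr R β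
    have hG : ∀ a, π' n (G a) = g n (π n a) := fun a => by
      have : (π' n).comp G = (g n).comp (π n) := (Pi.basisFun R (Fin p)).ext fun i => by
        show π' n ((Pi.basisFun R (Fin p)).constr R β _) = _
        rw [Module.Basis.constr_basis, hβ]
        rfl
      exact LinearMap.congr_fun this a
    refine ⟨G, ?_, hG⟩
    rw [← LinearMap.range_eq_top]
    refine top_le_iff.1 (Submodule.le_of_le_smul_of_le_jacobson_bot (I := IsLocalRing.maximalIdeal R)
      (Module.Finite.fg_top) (IsLocalRing.maximalIdeal_le_jacobson ⊥) ?_)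
    intro c _
    obtain ⟨x, hx⟩ := hgs n (π' n c)
    obtain ⟨a, rfl⟩ := hπs n x
    obtain ⟨c', hc'⟩ := (hπk' n (c - G a)).1 (by rw [map_sub, hG, hx, sub_self])
    rw [← sub_add_cancel c (G a), hc', add_comm]
    exact Submodule.add_mem_sup ⟨a, rfl⟩
      (Submodule.smul_mem_smul (Ideal.pow_mem_of_mem _ ht _ n.succ_pos) Submodule.mem_top)
  have rep : ∀ n, ∃ (G : (Fin p → R) →ₗ[R] (Fin r → R)) (s : (Fin r → R) →ₗ[R] (Fin p → R)),
      (∀ c, G (s c) = c) ∧ ∀ a, π' n (G a) = g n (π n a) := fun n => by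
    obtain ⟨G, hG, hGc⟩ := key n
    obtain ⟨s, hs⟩ := Module.projective_lifting_property G LinearMap.id hG
    exact ⟨G, s, fun c => LinearMap.congr_fun hs c, hGc⟩
  choose G s hs hG using rep
  -- an element of a level of the kernel is represented by an element killed by the lift
  have hrep : ∀ n (x : K n), ∃ a, G n a = 0 ∧ π n a = ι n x := fun n x => by
    obtain ⟨a, ha⟩ := hπs n (ι n x)
    obtain ⟨c, hc⟩ := (hπk' n (G n a)).1 (by rw [hG, ha, (hιg n _).2 ⟨x, rfl⟩])
    refine ⟨a - t ^ (n + 1) • s n c, ?_, ?_⟩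
    · rw [map_sub, map_smul, hs, ← hc, sub_self]
    · rw [map_sub, map_smul, (h.free n).smul_eq_zero, sub_zero, ha]
  refine ⟨fun n => ?_, fun n x => ?_, fun n x hx => ?_⟩
  · haveI : Module.Projective R (LinearMap.ker (G n)) := by
      refine Module.Projective.of_split (LinearMap.ker (G n)).subtype
        ((LinearMap.id - (s n).comp (G n)).codRestrict _ fun a => by
          show G n (a - s n (G n a)) = 0
          rw [map_sub, hs, sub_self]) (LinearMap.ext fun a => Subtype.ext ?_)
      show a.1 - s n (G n a.1) = a.1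
      rw [show G n a.1 = 0 from a.2, map_zero, sub_zero]
    haveI : Module.Finite R (LinearMap.ker (G n)) := by
      refine Module.Finite.of_surjective ((LinearMap.id - (s n).comp (G n)).codRestrict (LinearMap.ker (G n))
        fun a => by
          show G n (a - s n (G n a)) = 0
          rw [map_sub, hs, sub_self]) fun a => ⟨a.1, Subtype.ext ?_⟩
      show a.1 - s n (G n a.1) = a.1
      rw [show G n a.1 = 0 from a.2, map_zero, sub_zero]
    haveI : Module.Free R (LinearMap.ker (G n)) := Module.free_of_flat_of_isLocalRing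
    let b := Module.finBasis R (LinearMap.ker (G n))
    have hmem : ∀ a : LinearMap.ker (G n), π n a.1 ∈ LinearMap.range (ι n) := fun a =>
      (hιg n _).1 (by rw [← hG, show G n a.1 = 0 from a.2, map_zero])
    let e := LinearEquiv.ofInjective (ι n) (hι n)
    let ψ : LinearMap.ker (G n) →ₗ[R] K n :=
      e.symm.toLinearMap.comp (((π n).comp (LinearMap.ker (G n)).subtype).codRestrict _ hmem)
    have hψ : ∀ a, ι n (ψ a) = π n a.1 := fun a =>
      congrArg Subtype.val (e.apply_symm_apply ⟨π n a.1, hmem a⟩)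
    refine ⟨_, ψ.comp b.equivFun.symm.toLinearMap, ?_, fun c => ⟨fun hc => ?_, ?_⟩⟩
    · intro x
      obtain ⟨a, ha, hax⟩ := hrep n x
      refine ⟨b.equivFun ⟨a, ha⟩, hι n ?_⟩
      show ι n (ψ (b.equivFun.symm (b.equivFun ⟨a, ha⟩))) = ι n x
      rw [LinearEquiv.symm_apply_apply, hψ, hax]
    · obtain ⟨a', ha'⟩ := (hπk n (b.equivFun.symm c).1).1 (by
        rw [← hψ, show ψ (b.equivFun.symm c) = 0 from hc, map_zero])
      let a'' := a' - s n (G n a')
      refine ⟨b.equivFun ⟨a'', by show G n a'' = 0; rw [map_sub, hs, sub_self]⟩, ?_⟩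
      rw [← map_smul, ← b.equivFun.symm.injective.eq_iff, LinearEquiv.symm_apply_apply]
      refine Subtype.ext ?_
      show (b.equivFun.symm c).1 = t ^ (n + 1) • (a' - s n (G n a'))
      have h0 : G n (b.equivFun.symm c).1 = 0 := (b.equivFun.symm c).2
      rw [ha', map_smul] at h0
      rw [smul_sub, ← map_smul, h0, map_zero, sub_zero, ha']
    · rintro ⟨c', rfl⟩
      refine hι n ?_
      rw [map_smul, map_smul, map_zero, (h.free n).smul_eq_zero]
  · obtain ⟨a, ha, hax⟩ := hrep n x
    obtain ⟨c, hc⟩ := (hπk' n (G (n + 1) a)).1 (by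
      rw [← hπc', hG, hg, hπc, ← hG, ha, map_zero])
    have h0 : g (n + 1) (π (n + 1) (a - t ^ (n + 1) • s (n + 1) c)) = 0 := by
      rw [← hG, map_sub, map_smul, hs, ← hc, sub_self, map_zero]
    obtain ⟨y, hy⟩ := (hιg (n + 1) _).1 h0
    refine ⟨y, hι n ?_⟩
    rw [← hιtr, hy, hπc, map_sub, map_smul, (h.free n).smul_eq_zero, sub_zero, hax]
  · obtain ⟨a, ha, hax⟩ := hrep (n + 1) x
    obtain ⟨a', ha'⟩ := (hπk n a).1 (by rw [← hπc, hax, hιtr, hx, map_zero])
    have h0 : t ^ (n + 1) • G (n + 1) a' = 0 := by rw [← map_smul, ← ha', ha]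
    obtain ⟨y, hy⟩ := (hιg (n + 1) (π (n + 1) (a' - s (n + 1) (G (n + 1) a')))).1 (by
      rw [← hG, map_sub, hs, sub_self, map_zero])
    refine ⟨y, hι (n + 1) ?_⟩
    rw [map_smul, hy, ← map_smul, smul_sub, ← map_smul, ← map_smul, ← hax]
    refine congrArg (π (n + 1)) ?_
    rw [← ha', ha, map_zero, sub_zero]

end Local

end FormalAlgzAmpleLib
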