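import Groth.Agent.FormalAlgzAmpleLib.Twist
import Groth.Agent.PerfCompLib.ExtZero
import Groth.Agent.KFlatLib.Stalk
import Groth.Agent.HilbPolyLib.Twist
import Groth.Agent.FComplLib.Modules

/-!
# Systems that are locally the reductions of one module along a section
-/

set_option autoImplicit false
set_option linter.unusedSectionVars false
set_option backward.isDefEq.respectTransparency false
set_option backward.isDefEq.respectTransparency.types false
set_option maxHeartbeats 800000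

universe u

open CategoryTheory CategoryTheory.Limits AlgebraicGeometry TopologicalSpace Opposite

noncomputable section

namespace FormalAlgzAmpleLib

variable {P : Scheme.{u}} (L : P.Modules) (ℓ : Coh.structureModule P ⟶ L)

/-- The iterated twist. -/
def Tn : ℕ → (P.Modules ⥤ P.Modules)
  | 0 => 𝟭 _
  | a + 1 => Tw L ⋙ Tn a

/-- Multiplication by a power of the section. -/
def mpow : ∀ c, 𝟭 P.Modules ⟶ Tn L c
  | 0 => 𝟙 _
  | c + 1 =>
    { app := fun X => (mpow c).app X ≫ (Tn L c).map ((mulBy L ℓ).app X)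
      naturality := fun X Y f => by
        show f ≫ (mpow c).app Y ≫ (Tn L c).map ((mulBy L ℓ).app Y) =
          ((mpow c).app X ≫ (Tn L c).map ((mulBy L ℓ).app X)) ≫ (Tn L c).map ((Tw L).map f)
        rw [Category.assoc, ← Functor.map_comp, ← (mulBy L ℓ).naturality f, Functor.id_map, Functor.map_comp,
          ← Category.assoc, ← Category.assoc]
        exact congrArg (· ≫ _) ((mpow c).naturality f) }

instance additive_Tn : ∀ c, (Tn L c).Additive
  | 0 => inferInstanceAs (𝟭 _).Additive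
  | c + 1 => haveI := additive_Tn c; inferInstanceAs (Tw L ⋙ Tn L c).Additive

theorem shortExact_Tn (hL : PicF.IsInvertible L) : ∀ (c : ℕ) {S : ShortComplex P.Modules}, S.ShortExact →
    (S.map (Tn L c)).ShortExact
  | 0, _, hS => hS
  | c + 1, _, hS => shortExact_Tn hL c (HilbPolyLib.shortExact_tensor hL hS)

theorem isCoh_Tn (hL : PicF.IsInvertible L) : ∀ (c : ℕ) {F : P.Modules}, Coh.IsCoh F → Coh.IsCoh ((Tn L c).obj F)
  | 0, _, hF => hF
  | c + 1, _, hF => isCoh_Tn hL c (HilbPolyLib.isCoh_tensor hL hF)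

theorem mono_Tn_map (hL : PicF.IsInvertible L) (c : ℕ) {A B : P.Modules} (f : A ⟶ B) [Mono f] :
    Mono ((Tn L c).map f) :=
  (shortExact_Tn L hL c (S := ShortComplex.mk f (cokernel.π f) (cokernel.condition f))
    { exact := ShortComplex.exact_of_g_is_cokernel _ (cokernelIsCokernel f) }).mono_f

theorem epi_Tn_map (hL : PicF.IsInvertible L) (c : ℕ) {A B : P.Modules} (f : A ⟶ B) [Epi f] :
    Epi ((Tn L c).map f) :=
  (shortExact_Tn L hL c (S := ShortComplex.mk (kernel.ι f) f (kernel.condition f))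
    { exact := ShortComplex.exact_of_f_is_kernel _ (kernelIsKernel f) }).epi_g

section Stalk

variable (y : P) {V : P.Opens} (hy : y ∈ V) {g : Γ(L, V)} (hg : AmpleLib.GenOn L g)

local notation "St" => DerSch.stalkFunctor P y

/-- Stalks of iterated twists. -/
def tnEquiv : ∀ (c : ℕ) (F : P.Modules),
    ((St).obj ((Tn L c).obj F) : Type u) ≃ₗ[P.presheaf.stalk y] ((St).obj F : Type u)
  | 0, _ => LinearEquiv.refl _ _
  | c + 1, F => (tnEquiv c ((Tw L).obj F)).trans (twEquiv L y hy hg F)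

theorem tnEquiv_natural : ∀ (c : ℕ) {F G : P.Modules} (f : F ⟶ G) (b : ((St).obj ((Tn L c).obj F) : Type u)),
    tnEquiv L y hy hg c G (((St).map ((Tn L c).map f)).hom b) = ((St).map f).hom (tnEquiv L y hy hg c F b)
  | 0, _, _, _, _ => rfl
  | c + 1, F, G, f, b => by
    show twEquiv L y hy hg G (tnEquiv L y hy hg c _ (((St).map ((Tn L c).map ((Tw L).map f))).hom b)) =
      ((St).map f).hom (twEquiv L y hy hg F (tnEquiv L y hy hg c _ b))
    rw [tnEquiv_natural c, twEquiv_natural]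

theorem tnEquiv_mpow : ∀ (c : ℕ) (F : P.Modules) (a : ((St).obj F : Type u)),
    tnEquiv L y hy hg c F (((St).map ((mpow L ℓ c).app F)).hom a) = locVal L ℓ y hy hg ^ c • a
  | 0, F, a => by
    show ((St).map (𝟙 F)).hom a = _
    rw [CategoryTheory.Functor.map_id, pow_zero, one_smul]
    rfl
  | c + 1, F, a => by
    show twEquiv L y hy hg F (tnEquiv L y hy hg c _
      (((St).map ((mpow L ℓ c).app F ≫ (Tn L c).map ((mulBy L ℓ).app F))).hom a)) = _
    rw [(St).map_comp]
    show twEquiv L y hy hg F (tnEquiv L y hy hg c _ (((St).map ((Tn L c).map ((mulBy L ℓ).app F))).hom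
      (((St).map ((mpow L ℓ c).app F)).hom a))) = _
    rw [tnEquiv_natural]
    refine (congrArg (fun z => twEquiv L y hy hg F (((St).map ((mulBy L ℓ).app F)).hom z)) (tnEquiv_mpow c F a)).trans ?_
    exact ((congrArg (twEquiv L y hy hg F) (LinearMap.map_smul _ _ _)).trans (map_smul _ _ _)).trans
      ((congrArg _ (twEquiv_mulBy L ℓ y hy hg F a)).trans ((smul_smul _ _ _).trans (by rw [pow_succ])))

end Stalk

/-- An inverse sequence of modules. -/
structure Sys (P : Scheme.{u}) where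
  F : ℕ → P.Modules
  tr : ∀ n, F (n + 1) ⟶ F n

/-- The sequence as a functor. -/
def Sys.fn (G : Sys P) : ℕᵒᵖ ⥤ P.Modules := Functor.ofOpSequence (X := G.F) G.tr

/-- The transition between two levels. -/
def Sys.tle (G : Sys P) {a b : ℕ} (h : a ≤ b) : G.F b ⟶ G.F a := G.fn.map (homOfLE h).op

@[reassoc]
theorem Sys.tle_trans (G : Sys P) {a b c : ℕ} (h : a ≤ b) (h' : b ≤ c) :
    G.tle h' ≫ G.tle h = G.tle (h.trans h') := (G.fn.map_comp _ _).symm.trans rfl

theorem Sys.tle_succ (G : Sys P) (a : ℕ) : G.tle (Nat.le_succ a) = G.tr a := Functor.ofOpSequence_map_homOfLE_succ _ _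

/-- A module reducing to the stalks of the levels at a point. -/
structure Model (G : Sys P) (c₀ : ℕ) (y : P) where
  V : P.Opens
  hy : y ∈ V
  g : Γ(L, V)
  hg : AmpleLib.GenOn L g
  D : ModuleCat.{u} (P.presheaf.stalk y)
  π : ∀ n, D ⟶ (DerSch.stalkFunctor P y).obj (G.F n)
  comm : ∀ n, π (n + 1) ≫ (DerSch.stalkFunctor P y).map (G.tr n) = π n
  surj : ∀ n, Function.Surjective (π n).hom
  ker : ∀ n (d : D), (π n).hom d = 0 ↔ ∃ d' : D, d = locVal L ℓ y hy hg ^ (n + 1) • d'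
  stable : ∀ (j : ℕ) (d : D), locVal L ℓ y hy hg ^ (c₀ + 1 + j) • d = 0 → locVal L ℓ y hy hg ^ (c₀ + 1) • d = 0

/-- Every point has a model. -/
def Sys.Good (G : Sys P) (c₀ : ℕ) : Prop := ∀ y : P, Nonempty (Model L ℓ G c₀ y)

variable (G : Sys P) (c₀ : ℕ)

/-- The levels divisible by the power `c₀ + 1` of the section. -/
def W (i : ℕ) : P.Modules := kernel (G.tle (show c₀ ≤ c₀ + i + 1 by omega))

/-- The inclusion of such a level. -/
def wι (i : ℕ) : W G c₀ i ⟶ G.F (c₀ + i + 1) := kernel.ι _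

instance (i : ℕ) : Mono (wι G c₀ i) := inferInstanceAs (Mono (kernel.ι _))

theorem wι_cond (i : ℕ) : wι G c₀ i ≫ G.tle (show c₀ ≤ c₀ + i + 1 by omega) = 0 := kernel.condition _

/-- Transition maps. -/
def wle {i i' : ℕ} (h : i ≤ i') : W G c₀ i' ⟶ W G c₀ i :=
  kernel.lift _ (wι G c₀ i' ≫ G.tle (show c₀ + i + 1 ≤ c₀ + i' + 1 by omega))
    (by rw [Category.assoc, G.tle_trans, wι_cond])

@[reassoc]
theorem wle_ι {i i' : ℕ} (h : i ≤ i') :
    wle G c₀ h ≫ wι G c₀ i = wι G c₀ i' ≫ G.tle (show c₀ + i + 1 ≤ c₀ + i' + 1 by omega) := kernel.lift_ι _ _ _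

@[reassoc]
theorem wle_trans {a b c : ℕ} (h : a ≤ b) (h' : b ≤ c) : wle G c₀ h' ≫ wle G c₀ h = wle G c₀ (h.trans h') := by
  rw [← cancel_mono (wι G c₀ a), Category.assoc, wle_ι, wle_ι_assoc, wle_ι, G.tle_trans]

namespace Model

variable {L ℓ G c₀} {y : P} (M : Model L ℓ G c₀ y)

local notation "St" => DerSch.stalkFunctor P y
local notation "t" => locVal L ℓ y M.hy M.hg

theorem π_tle {p q : ℕ} (h : p ≤ q) : M.π q ≫ (St).map (G.tle h) = M.π p := by
  induction h with
  | refl =>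
    rw [show G.tle (le_refl p) = 𝟙 _ from G.fn.map_id (op p), CategoryTheory.Functor.map_id, Category.comp_id]
  | @step m hm ih =>
    rw [← G.tle_trans hm (Nat.le_succ m), (St).map_comp, G.tle_succ, ← Category.assoc, M.comm, ih]

theorem π_tle_apply {p q : ℕ} (h : p ≤ q) (d : M.D) : ((St).map (G.tle h)).hom ((M.π q).hom d) = (M.π p).hom d :=
  congr($(M.π_tle h).hom d)

theorem wι_inj (_M : Model L ℓ G c₀ y) (i : ℕ) : Function.Injective ((St).map (wι G c₀ i)).hom :=
  (ModuleCat.mono_iff_injective _).1 inferInstance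

theorem mem_W_iff (i : ℕ) (x : ((St).obj (G.F (c₀ + i + 1)) : Type u)) :
    (∃ w, ((St).map (wι G c₀ i)).hom w = x) ↔ ∃ d : M.D, x = (M.π (c₀ + i + 1)).hom (t ^ (c₀ + 1) • d) := by
  have hS : ((ShortComplex.mk _ _ (wι_cond G c₀ i)).map (St)).Exact :=
    (ShortComplex.exact_of_f_is_kernel _ (kernelIsKernel _)).map _
  constructor
  · rintro ⟨w, rfl⟩
    obtain ⟨d, hd⟩ := M.surj (c₀ + i + 1) (((St).map (wι G c₀ i)).hom w)
    have h0 : (M.π c₀).hom d = 0 := by
      rw [← M.π_tle_apply (show c₀ ≤ c₀ + i + 1 by omega), hd]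
      exact congr($(((ShortComplex.mk _ _ (wι_cond G c₀ i)).map (St)).zero).hom w)
    obtain ⟨d', rfl⟩ := (M.ker c₀ d).1 h0
    exact ⟨d', hd.symm⟩
  · rintro ⟨d, rfl⟩
    exact (ShortComplex.moduleCat_exact_iff _).1 hS _ ((M.π_tle_apply _ _).trans ((M.ker c₀ _).2 ⟨d, rfl⟩))

/-- The map from the module onto a level. -/
def toW (i : ℕ) (d : M.D) : ((St).obj (W G c₀ i) : Type u) := ((M.mem_W_iff i _).2 ⟨d, rfl⟩).choose

theorem wι_toW (i : ℕ) (d : M.D) :
    ((St).map (wι G c₀ i)).hom (M.toW i d) = (M.π (c₀ + i + 1)).hom (t ^ (c₀ + 1) • d) :=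
  ((M.mem_W_iff i _).2 ⟨d, rfl⟩).choose_spec

theorem toW_surjective (i : ℕ) : Function.Surjective (M.toW i) := fun w => by
  obtain ⟨d, hd⟩ := (M.mem_W_iff i _).1 ⟨w, rfl⟩
  exact ⟨d, M.wι_inj i ((M.wι_toW i d).trans hd.symm)⟩

theorem toW_eq_zero_iff (i : ℕ) (d : M.D) :
    M.toW i d = 0 ↔ ∃ d' : M.D, t ^ (c₀ + 1) • d = t ^ (c₀ + 1 + (i + 1)) • d' := by
  rw [← (M.wι_inj i).eq_iff, M.wι_toW, map_zero, M.ker]
  constructor <;>
  · rintro ⟨d', hd'⟩
    refine ⟨d', ?_⟩
    rw [hd']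
    congr 2 <;> omega

theorem wle_toW {i i' : ℕ} (h : i ≤ i') (d : M.D) : ((St).map (wle G c₀ h)).hom (M.toW i' d) = M.toW i d := by
  refine M.wι_inj i ?_
  have h1 := congr(($(congrArg (St).map (wle_ι G c₀ h))).hom (M.toW i' d))
  simp only [Functor.map_comp, ModuleCat.hom_comp, LinearMap.comp_apply] at h1
  rw [h1, M.wι_toW, M.π_tle_apply, M.wι_toW]

theorem toW_pow_smul (i j : ℕ) (d : M.D) : M.toW i (t ^ j • d) = t ^ j • M.toW i d := by
  refine M.wι_inj i ?_
  rw [map_smul, M.wι_toW, M.wι_toW, ← map_smul, smul_smul, smul_smul, ← pow_add, ← pow_add, add_comm j]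

end Model

variable (hG : G.Good L ℓ c₀)

section Maps

include hG

theorem epi_wle {i i' : ℕ} (h : i ≤ i') : Epi (wle G c₀ h) :=
  PerfCompLib.epi_of_stalks _ fun y => (ModuleCat.epi_iff_surjective _).2 fun x => by
    obtain ⟨M⟩ := hG y
    obtain ⟨d, rfl⟩ := M.toW_surjective i x
    exact ⟨M.toW i' d, M.wle_toW h d⟩

theorem kernel_mpow_eq_zero (i j : ℕ) :
    kernel.ι (wle G c₀ (Nat.le_add_right i j)) ≫ (mpow L ℓ j).app (W G c₀ (i + j)) = 0 :=
  FComplLib.eq_zero_of_stalks _ fun y => ModuleCat.hom_ext (LinearMap.ext fun x => by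
    obtain ⟨M⟩ := hG y
    show ((DerSch.stalkFunctor P y).map (kernel.ι _ ≫ _)).hom x = 0
    rw [Functor.map_comp, ModuleCat.hom_comp, LinearMap.comp_apply]
    obtain ⟨d, hd⟩ := M.toW_surjective (i + j) (((DerSch.stalkFunctor P y).map
      (kernel.ι (wle G c₀ (Nat.le_add_right i j)))).hom x)
    have h0 : M.toW i d = 0 := by
      rw [← M.wle_toW (Nat.le_add_right i j), hd]
      have h1 := congr(($(congrArg (DerSch.stalkFunctor P y).map
        (kernel.condition (wle G c₀ (Nat.le_add_right i j))))).hom x)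
      simp only [Functor.map_comp, ModuleCat.hom_comp, LinearMap.comp_apply, Functor.map_zero] at h1
      exact h1
    obtain ⟨d', hd'⟩ := (M.toW_eq_zero_iff i d).1 h0
    rw [← hd]
    apply (tnEquiv L y M.hy M.hg j _).injective
    refine (tnEquiv_mpow L ℓ y M.hy M.hg j _ _).trans ?_
    rw [map_zero, ← M.toW_pow_smul]
    refine (M.toW_eq_zero_iff _ _).2 ⟨d', ?_⟩
    rw [smul_comm, hd', smul_smul, ← pow_add]
    congr 2 <;> omega)

end Maps

/-- Multiplication by the `j`-th power, lifted. -/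
def sig (i j : ℕ) : W G c₀ i ⟶ (Tn L j).obj (W G c₀ (i + j)) :=
  haveI := epi_wle L ℓ G c₀ hG (Nat.le_add_right i j)
  (Abelian.epiIsCokernelOfKernel _ (kernelIsKernel (wle G c₀ (Nat.le_add_right i j)))).desc
    (CokernelCofork.ofπ _ (kernel_mpow_eq_zero L ℓ G c₀ hG i j))

theorem wle_sig (i j : ℕ) :
    wle G c₀ (Nat.le_add_right i j) ≫ sig L ℓ G c₀ hG i j = (mpow L ℓ j).app (W G c₀ (i + j)) :=
  haveI := epi_wle L ℓ G c₀ hG (Nat.le_add_right i j)
  (Abelian.epiIsCokernelOfKernel _ (kernelIsKernel (wle G c₀ (Nat.le_add_right i j)))).fac _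
    WalkingParallelPair.one

theorem sig_toW {y : P} (M : Model L ℓ G c₀ y) (i j : ℕ) (d : M.D) :
    tnEquiv L y M.hy M.hg j _ (((DerSch.stalkFunctor P y).map (sig L ℓ G c₀ hG i j)).hom (M.toW i d)) =
      locVal L ℓ y M.hy M.hg ^ j • M.toW (i + j) d := by
  rw [← M.wle_toW (Nat.le_add_right i j), ← tnEquiv_mpow L ℓ y M.hy M.hg j, ← wle_sig L ℓ G c₀ hG i j,
    Functor.map_comp, ModuleCat.hom_comp, LinearMap.comp_apply]
  rfl

theorem sig_zero (i j : ℕ) :
    sig L ℓ G c₀ hG i (j + 1) ≫ (Tn L (j + 1)).map (wle G c₀ (show j ≤ i + (j + 1) by omega)) = 0 :=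
  FComplLib.eq_zero_of_stalks _ fun y => ModuleCat.hom_ext (LinearMap.ext fun x => by
    obtain ⟨M⟩ := hG y
    obtain ⟨d, rfl⟩ := M.toW_surjective i x
    rw [Functor.map_comp, ModuleCat.hom_comp, LinearMap.comp_apply]
    refine (tnEquiv L y M.hy M.hg (j + 1) _).injective ?_
    rw [tnEquiv_natural, sig_toW, map_smul, M.wle_toW, ← M.toW_pow_smul, ModuleCat.hom_zero, LinearMap.zero_apply,
      map_zero]
    refine (M.toW_eq_zero_iff _ _).2 ⟨d, ?_⟩
    rw [smul_smul, ← pow_add]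
    )

/-- **The levels along the powers of the section.** -/
theorem sig_shortExact (i j : ℕ) : (ShortComplex.mk _ _ (sig_zero L ℓ G c₀ hG i j)).ShortExact :=
  PerfCompLib.shortExact_of_stalks _ fun y => by
    obtain ⟨M⟩ := hG y
    refine { exact := (ShortComplex.moduleCat_exact_iff _).2 fun z hz => ?_, mono_f := ?_, epi_g := ?_ }
    · obtain ⟨d, hd⟩ := M.toW_surjective (i + (j + 1)) (tnEquiv L y M.hy M.hg (j + 1) _ z)
      have h0 : M.toW j d = 0 := by
        rw [← M.wle_toW (show j ≤ i + (j + 1) by omega), hd, ← tnEquiv_natural]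
        exact (congrArg _ hz).trans (map_zero _)
      obtain ⟨d', hd'⟩ := (M.toW_eq_zero_iff j d).1 h0
      refine ⟨M.toW i d', (tnEquiv L y M.hy M.hg (j + 1) _).injective ?_⟩
      refine (sig_toW L ℓ G c₀ hG M i (j + 1) d').trans ?_
      rw [← hd, ← M.toW_pow_smul, ← sub_eq_zero]
      have hadd : ∀ a b : M.D, M.toW (i + (j + 1)) a - M.toW (i + (j + 1)) b = M.toW (i + (j + 1)) (a - b) :=
        fun a b => M.wι_inj _ (by rw [map_sub, M.wι_toW, M.wι_toW, M.wι_toW, smul_sub, map_sub])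
      rw [hadd]
      refine (M.toW_eq_zero_iff _ _).2 ⟨0, ?_⟩
      rw [smul_zero, smul_sub, hd', smul_smul, ← pow_add, sub_eq_zero]
    · refine (ModuleCat.mono_iff_injective _).2 ((injective_iff_map_eq_zero _).2 fun x hx => ?_)
      obtain ⟨d, rfl⟩ := M.toW_surjective i x
      have h1 : M.toW (i + (j + 1)) (locVal L ℓ y M.hy M.hg ^ (j + 1) • d) = 0 := by
        rw [M.toW_pow_smul, ← sig_toW L ℓ G c₀ hG M]
        exact (congrArg _ hx).trans (map_zero _)
      obtain ⟨d', hd'⟩ := (M.toW_eq_zero_iff _ _).1 h1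
      refine (M.toW_eq_zero_iff _ _).2 ⟨d', ?_⟩
      have h2 : locVal L ℓ y M.hy M.hg ^ (c₀ + 1 + (j + 1)) • (d - locVal L ℓ y M.hy M.hg ^ (i + 1) • d') = 0 := by
        rw [smul_sub, pow_add, mul_smul, hd', smul_smul, ← pow_add, ← pow_add, sub_eq_zero]
        congr 2 <;> omega
      have h3 := M.stable (j + 1) _ h2
      rw [smul_sub, smul_smul, ← pow_add, sub_eq_zero] at h3
      rw [h3]

    · refine (ModuleCat.epi_iff_surjective _).2 fun x => ?_
      obtain ⟨d, hd⟩ := M.toW_surjective j (tnEquiv L y M.hy M.hg (j + 1) _ x)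
      refine ⟨(tnEquiv L y M.hy M.hg (j + 1) _).symm (M.toW (i + (j + 1)) d),
        (tnEquiv L y M.hy M.hg (j + 1) _).injective ?_⟩
      refine (tnEquiv_natural L y M.hy M.hg (j + 1) _ _).trans ?_
      rw [LinearEquiv.apply_symm_apply, M.wle_toW, hd]

end FormalAlgzAmpleLib
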